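import Cfsg.Agent.H53.SingerModels

/-!
# Abelian 2-groups with a fours-group of fixed points and an element of order three
-/

set_option autoImplicit false
set_option linter.style.haveILetI false
open Subgroup

namespace Cfsg.Agent.H53.Singer

variable {A : Type*} [CommGroup A] [Finite A]

/-- An abelian 2-group with four elements of square one, on which an automorphism fixes no
involution, is homocyclic of rank two. -/
theorem homocyclic_of_four (hp : IsPGroup 2 A) (σ : MulAut A)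
    (h4 : Nat.card (powMonoidHom 2 : A →* A).ker = 4)
    (hσ : ∀ v : A, v ^ 2 = 1 → v ≠ 1 → σ v ≠ v) :
    ∃ n : ℕ, 1 ≤ n ∧
      Nonempty (A ≃* Multiplicative (ZMod (2 ^ n)) × Multiplicative (ZMod (2 ^ n))) := by
  classical
  haveI : Fact (Nat.Prime 2) := ⟨Nat.prime_two⟩
  obtain ⟨x, hx⟩ := Monoid.exists_orderOf_eq_exponent (G := A) (Monoid.ExponentExists.of_finite)
  obtain ⟨n, hn⟩ := IsPGroup.iff_orderOf.mp hp x
  have hexp : ∀ a : A, a ^ 2 ^ n = 1 := fun a => by
    rw [← hn, hx]; exact Monoid.pow_exponent_eq_one a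
  have hn1 : 1 ≤ n := by
    by_contra h0
    have hA : ∀ a : A, a = 1 := fun a => by simpa [show n = 0 by omega] using hexp a
    haveI : Subsingleton (powMonoidHom 2 : A →* A).ker :=
      ⟨fun a b => Subtype.ext ((hA a).trans (hA b).symm)⟩
    rw [Nat.card_of_subsingleton (1 : (powMonoidHom 2 : A →* A).ker)] at h4
    omega
  -- the bound on the order
  have hle : ∀ k : ℕ, Nat.card (powMonoidHom (2 ^ k) : A →* A).ker ≤ 4 ^ k := by
    intro k
    induction k with
    | zero =>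
      refine le_of_eq (card_eq_one.mpr ((eq_bot_iff_forall _).mpr fun a ha => ?_))
      simpa [MonoidHom.mem_ker] using ha
    | succ k ih =>
      set K := (powMonoidHom (2 ^ (k + 1)) : A →* A).ker with hK
      let s : K →* A := (powMonoidHom 2).comp K.subtype
      have h1 : Nat.card K = Nat.card s.ker * Nat.card s.range := by
        rw [← index_ker, card_mul_index]
      have h2 : Nat.card s.ker ≤ 4 := by
        rw [← h4]
        exact Nat.card_le_card_of_injective
          (fun a => ⟨a.1.1, a.2⟩ : s.ker → (powMonoidHom 2 : A →* A).ker)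
          fun a b e => Subtype.ext (Subtype.ext (congrArg (fun z => z.1) e))
      have h3 : Nat.card s.range ≤ Nat.card (powMonoidHom (2 ^ k) : A →* A).ker := by
        refine card_le_of_le ?_
        rintro _ ⟨⟨a, ha⟩, rfl⟩
        show (a ^ 2) ^ 2 ^ k = 1
        rw [← pow_mul, ← pow_succ']
        exact ha
      rw [h1, pow_succ', show (4 : ℕ) * 4 ^ k = 4 * 4 ^ k from rfl]
      exact Nat.mul_le_mul h2 (h3.trans ih)
  have hcard : Nat.card A ≤ 2 ^ n * 2 ^ n := by
    have := hle n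
    rw [show (powMonoidHom (2 ^ n) : A →* A).ker = ⊤ from eq_top_iff.mpr fun a _ => hexp a,
      card_top, show (4 : ℕ) = 2 * 2 from rfl, mul_pow] at this
    exact this
  -- two independent cyclic subgroups
  have hy : orderOf (σ x) = 2 ^ n := (σ.orderOf_eq x).trans hn
  let φ : zpowers x × zpowers (σ x) →* A :=
    { toFun := fun p => p.1.1 * p.2.1
      map_one' := mul_one _
      map_mul' := fun p p' => mul_mul_mul_comm _ _ _ _ }
  have hinter : ∀ w ∈ zpowers x, w ∈ zpowers (σ x) → w = 1 := by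
    by_contra hne
    push Not at hne
    obtain ⟨w, hw1, hw2, hw3⟩ := hne
    have hne' : zpowers x ⊓ zpowers (σ x) ≠ ⊥ := fun e =>
      hw3 (by rw [← mem_bot, ← e]; exact ⟨hw1, hw2⟩)
    have hdvd : 2 ∣ Nat.card (zpowers x ⊓ zpowers (σ x) : Subgroup A) :=
      ((hp.to_subgroup _).card_eq_or_dvd).resolve_left fun hc => hne' (card_eq_one.mp hc)
    obtain ⟨⟨z, hz1, hz2⟩, hz⟩ := exists_prime_orderOf_dvd_card' 2 hdvd
    rw [← Subgroup.orderOf_coe, orderOf_eq_prime_iff] at hz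
    change z ^ 2 = 1 ∧ z ≠ 1 at hz
    have huniq : ∀ y : A, orderOf y = 2 ^ n → z ∈ zpowers y → z = y ^ 2 ^ (n - 1) := by
      intro y hy hzy
      obtain ⟨k, rfl⟩ := mem_powers_iff_mem_zpowers.mpr hzy
      have h1 : 2 ^ n ∣ k * 2 := by
        rw [← hy, orderOf_dvd_iff_pow_eq_one, pow_mul]; exact hz.1
      have h2 : 2 ^ (n - 1) ∣ k := by
        refine Nat.dvd_of_mul_dvd_mul_right two_pos ?_
        rwa [← pow_succ, Nat.sub_add_cancel hn1]
      obtain ⟨m, rfl⟩ := h2
      have hy2 : (y ^ 2 ^ (n - 1)) ^ 2 = 1 := by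
        rw [← pow_mul, ← pow_succ, Nat.sub_add_cancel hn1, ← hy, pow_orderOf_eq_one]
      rcases Nat.even_or_odd m with ⟨j, rfl⟩ | ⟨j, rfl⟩
      · exact absurd (show y ^ (2 ^ (n - 1) * (j + j)) = 1 by rw [pow_mul, ← two_mul, pow_mul, hy2, one_pow]) hz.2
      · show y ^ (2 ^ (n - 1) * (2 * j + 1)) = _
        rw [pow_mul, pow_succ, pow_mul, hy2, one_pow, one_mul]
    have e1 := huniq x hn hz1
    have e2 := huniq (σ x) hy hz2
    refine hσ z hz.1 hz.2 ?_
    conv_lhs => rw [e1, map_pow]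
    exact e2.symm
  have hinj : Function.Injective φ := by
    rw [← MonoidHom.ker_eq_bot_iff, eq_bot_iff]
    rintro ⟨⟨a, ha⟩, ⟨b, hb⟩⟩ (hab : a * b = 1)
    have e : a = b⁻¹ := eq_inv_of_mul_eq_one_left hab
    have ha1 : a = 1 := hinter a ha (e ▸ inv_mem hb)
    rw [ha1, one_mul] at hab
    exact mem_bot.mpr (Prod.ext (Subtype.ext ha1) (Subtype.ext hab))
  have hbij : Function.Bijective φ := by
    refine hinj.bijective_of_nat_card_le ?_
    rw [Nat.card_prod, Nat.card_zpowers, Nat.card_zpowers, hn, hy]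
    exact hcard
  have hc1 : Nat.card (zpowers x) = 2 ^ n := by rw [Nat.card_zpowers, hn]
  have hc2 : Nat.card (zpowers (σ x)) = 2 ^ n := by rw [Nat.card_zpowers, hy]
  exact ⟨n, hn1, ⟨(MulEquiv.ofBijective φ hbij).symm.trans (MulEquiv.prodCongr
    ((zmodCyclicMulEquiv (isCyclic_zpowers x)).symm.trans (hc1 ▸ MulEquiv.refl _))
    ((zmodCyclicMulEquiv (isCyclic_zpowers (σ x))).symm.trans (hc2 ▸ MulEquiv.refl _)))⟩⟩

/-- If the involutive `τ` commutes with `σ`, has a fours-group of fixed points of square one, on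
which `σ` is fixed-point-free, then the group is elementary of order 16 or homocyclic. -/
theorem abelian_of_four (hp : IsPGroup 2 A) (τ σ : MulAut A) (V : Subgroup A)
    (hV : ∀ a, a ∈ V ↔ τ a = a) (hV4 : Nat.card V = 4) (hV2 : ∀ v ∈ V, v ^ 2 = 1)
    (hτ : ∀ a, τ (τ a) = a) (hcomm : ∀ a, τ (σ a) = σ (τ a))
    (hfp : ∀ v ∈ V, v ≠ 1 → σ v ≠ v)
    (htr : ∀ v ∈ V, ∀ w ∈ V, v ≠ 1 → w ≠ 1 → ∃ k : ℕ, (σ ^ k) v = w) :
    (Nat.card A = 16 ∧ ∀ a : A, a ^ 2 = 1) ∨
      ∃ n : ℕ, 1 ≤ n ∧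
        Nonempty (A ≃* Multiplicative (ZMod (2 ^ n)) × Multiplicative (ZMod (2 ^ n))) := by
  classical
  haveI : Fact (Nat.Prime 2) := ⟨Nat.prime_two⟩
  by_cases hE : ∀ a : A, a ^ 2 = 1 → a ∈ V
  · refine Or.inr (homocyclic_of_four hp σ ?_ fun v hv hv1 => hfp v (hE v hv) hv1)
    rw [show (powMonoidHom 2 : A →* A).ker = V from le_antisymm (fun a ha => hE a ha) hV2]
    exact hV4
  push Not at hE
  obtain ⟨e, he2, heV⟩ := hE
  let d : A →* A := MonoidHom.id A * τ.toMonoidHom
  have hd : ∀ a, d a = a * τ a := fun a => rfl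
  have hdV : ∀ a, d a ∈ V := fun a => by rw [hV, hd, map_mul, hτ, mul_comm]
  have hde : d e ≠ 1 := fun h0 => heV ((hV e).mpr (by
    rw [hd, mul_eq_one_iff_inv_eq] at h0
    rw [← h0]
    exact inv_eq_of_mul_eq_one_right (by rw [← sq, he2])))
  have hsurj : ∀ v ∈ V, ∃ f : A, f ^ 2 = 1 ∧ d f = v := fun v hv => by
    rcases eq_or_ne v 1 with rfl | hv1
    · exact ⟨1, one_pow 2, map_one d⟩
    · obtain ⟨k, rfl⟩ := htr _ (hdV e) v hv hde hv1
      refine ⟨(σ ^ k) e, by rw [← map_pow, he2, map_one], ?_⟩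
      have hk : ∀ k : ℕ, ∀ a, τ ((σ ^ k) a) = (σ ^ k) (τ a) := by
        intro k
        induction k with
        | zero => intro a; rfl
        | succ k ih => intro a; rw [pow_succ_apply, pow_succ_apply, hcomm, ih]
      rw [hd, hd, hk, map_mul]
  have hexp : ∀ a : A, a ^ 2 = 1 := by
    by_contra hne
    push Not at hne
    obtain ⟨a, ha⟩ := hne
    obtain ⟨m, hm⟩ := IsPGroup.iff_orderOf.mp hp a
    have hm2 : 2 ≤ m := by
      by_contra hlt
      refine ha ?_
      rw [← orderOf_dvd_iff_pow_eq_one, hm]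
      exact (pow_dvd_pow 2 (show m ≤ 1 by omega)).trans (by norm_num)
    set y := a ^ 2 ^ (m - 2) with hy
    have hy4 : (y ^ 2) ^ 2 = 1 := by
      rw [hy, ← pow_mul, ← pow_mul, show 2 ^ (m - 2) * (2 * 2) = 2 ^ m by
        rw [show 2 * 2 = 2 ^ 2 from rfl, ← pow_add, Nat.sub_add_cancel hm2], ← hm, pow_orderOf_eq_one]
    have hy2 : y ^ 2 ≠ 1 := by
      intro h0
      rw [hy, ← pow_mul, ← pow_succ, ← orderOf_dvd_iff_pow_eq_one, hm,
        Nat.pow_dvd_pow_iff_le_right (by norm_num)] at h0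
      omega
    have hw : ∀ z, τ z = z⁻¹ * d z := fun z => by rw [hd, inv_mul_cancel_left]
    have hwV : y ^ 2 ∈ V := by
      rw [hV, map_pow, hw, mul_pow, hV2 _ (hdV y), mul_one, inv_pow]
      exact inv_eq_of_mul_eq_one_right (by rw [← sq, hy4])
    obtain ⟨f, hf2, hf⟩ := hsurj (d y * y ^ 2) (mul_mem (hdV y) hwV)
    have hzV : y * f ∈ V := by
      rw [hV, hw, map_mul, hf, mul_inv, inv_eq_of_mul_eq_one_right (show f * f = 1 by rw [← sq, hf2]),
        show d y * (d y * y ^ 2) = y ^ 2 by rw [← mul_assoc, ← sq, hV2 _ (hdV y), one_mul], sq,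
        mul_mul_mul_comm, ← mul_assoc, inv_mul_cancel, one_mul, mul_comm]
    have := hV2 _ hzV
    rw [mul_pow, hf2, mul_one] at this
    exact hy2 this
  refine Or.inl ⟨?_, hexp⟩
  have hker : d.ker = V := by
    ext a
    rw [MonoidHom.mem_ker, hd, hV, mul_eq_one_iff_inv_eq,
      inv_eq_of_mul_eq_one_right (show a * a = 1 by rw [← sq, hexp]), eq_comm]
  have hrange : d.range = V := le_antisymm (by rintro _ ⟨a, rfl⟩; exact hdV a)
    fun v hv => by obtain ⟨f, -, hf⟩ := hsurj v hv; exact ⟨f, hf⟩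
  rw [← card_mul_index d.ker, index_ker, hker, hrange, hV4]

end Cfsg.Agent.H53.Singer
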