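import Cfsg.Agent.H53.OddActionBasic
import Cfsg.Agent.H24.TwoMaxClass
import Cfsg.Agent.H24.Extraspecial

/-!
# Counting the solutions of `x ^ 2 = 1` by quadratic character sums
-/

set_option autoImplicit false
set_option linter.style.haveILetI false
set_option linter.unusedSectionVars false
open Subgroup
open scoped commutatorElement

namespace Cfsg.Agent.H53.OddAct

variable {X : Type*} [Group X]

/-- A character with values `1`, `-1` on a central subgroup containing all squares. -/
structure SqChar (Z : Subgroup X) (χ : X → ℤ) : Prop where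
  central : Z ≤ center X
  sq : ∀ x : X, x ^ 2 ∈ Z
  val : ∀ y, χ y = 1 ∨ χ y = -1
  one : χ 1 = 1
  mul : ∀ y ∈ Z, ∀ y' ∈ Z, χ (y * y') = χ y * χ y'

/-- The character sum. -/
noncomputable def charSum [Finite X] (χ : X → ℤ) : ℤ :=
  letI := Fintype.ofFinite X
  ∑ x : X, χ (x ^ 2)

namespace SqChar

variable {Z : Subgroup X} {χ : X → ℤ} (h : SqChar Z χ)
include h

theorem comm_mem (x y : X) : ⁅x, y⁆ ∈ Z := comm_mem_of_sq h.sq x y

theorem mul_self (y : X) : χ y * χ y = 1 := by rcases h.val y with e | e <;> rw [e] <;> rfl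

theorem sq_mul (v u : X) : χ ((v * u) ^ 2) = χ (v ^ 2) * χ (u ^ 2) * χ ⁅u, v⁆ := by
  have hc := mem_center_iff.mp (h.central (h.comm_mem u v))
  have e : (v * u) ^ 2 = v ^ 2 * u ^ 2 * ⁅u, v⁆ := by
    calc (v * u) ^ 2 = v * ⁅u, v⁆ * (v * u * u) := by simp [commutatorElement_def, pow_two, mul_assoc]
      _ = v ^ 2 * u ^ 2 * ⁅u, v⁆ := by rw [mul_assoc, ← hc (v * u * u)]; simp [pow_two, mul_assoc]
  rw [e, h.mul _ (mul_mem (h.sq v) (h.sq u)) _ (h.comm_mem u v), h.mul _ (h.sq v) _ (h.sq u)]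

theorem comm_mul_left (u u' v : X) : χ ⁅u * u', v⁆ = χ ⁅u, v⁆ * χ ⁅u', v⁆ := by
  have e : ⁅u * u', v⁆ = ⁅u', v⁆ * ⁅u, v⁆ := by
    calc ⁅u * u', v⁆ = u * ⁅u', v⁆ * u⁻¹ * ⁅u, v⁆ := by simp [commutatorElement_def, mul_assoc]
      _ = ⁅u', v⁆ * ⁅u, v⁆ := by
        rw [mem_center_iff.mp (h.central (h.comm_mem u' v)) u, mul_inv_cancel_right]
  rw [e, h.mul _ (h.comm_mem u' v) _ (h.comm_mem u v), mul_comm]

theorem comm_symm (u v : X) : χ ⁅u, v⁆ = χ ⁅v, u⁆ := by
  have e := h.mul _ (h.comm_mem u v) _ (h.comm_mem v u)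
  rw [← commutatorElement_inv u v, mul_inv_cancel, h.one, commutatorElement_inv u v] at e
  rcases h.val ⁅u, v⁆ with a | a <;> rcases h.val ⁅v, u⁆ with b | b <;> simp_all

/-- The radical of the commutator form. -/
def radical : Subgroup X where
  carrier := {u | ∀ v, χ ⁅u, v⁆ = 1}
  one_mem' := fun v => by simp [h.one]
  mul_mem' := fun {a b} ha hb v => by rw [h.comm_mul_left, ha v, hb v, mul_one]
  inv_mem' := fun {a} ha v => by
    have e := h.comm_mul_left a a⁻¹ v
    rwa [mul_inv_cancel, commutatorElement_one_left, h.one, ha v, one_mul, eq_comm] at e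

theorem mem_radical {u : X} : u ∈ h.radical ↔ ∀ v, χ ⁅u, v⁆ = 1 := Iff.rfl

theorem center_le_radical : center X ≤ h.radical := fun u hu v => by
  rw [commutatorElement_eq_one_iff_mul_comm.mpr (mem_center_iff.mp hu v).symm, h.one]

variable [Finite X]

open Classical in
theorem sum_sq_key [Fintype X] :
    charSum χ ^ 2 = Nat.card X * ∑ u : X, if u ∈ h.radical then χ (u ^ 2) else 0 := by
  classical
  have e0 : charSum χ = ∑ x : X, χ (x ^ 2) := by unfold charSum; congr!
  rw [e0, pow_two, Finset.sum_mul_sum]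
  have e1 : ∀ v : X, ∑ w : X, χ (v ^ 2) * χ (w ^ 2) = ∑ u : X, χ (u ^ 2) * χ ⁅u, v⁆ := fun v => by
    refine (Fintype.sum_equiv (Equiv.mulLeft v) _ _ fun u => ?_).symm
    rw [Equiv.coe_mulLeft, h.sq_mul, ← mul_assoc, ← mul_assoc, h.mul_self, one_mul]
  simp only [e1]
  rw [Finset.sum_comm, Finset.mul_sum]
  refine Finset.sum_congr rfl fun u _ => ?_
  rw [← Finset.mul_sum]
  split_ifs with hu
  · rw [Finset.sum_congr rfl fun v _ => (h.mem_radical.mp hu v), Finset.sum_const,
      Finset.card_univ, Nat.card_eq_fintype_card, nsmul_eq_mul, mul_one, mul_comm]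
  · have : ∃ v₀, χ ⁅u, v₀⁆ = -1 := by
      by_contra hno
      push Not at hno
      exact hu fun v => (h.val _).resolve_right (hno v)
    obtain ⟨v₀, hv₀⟩ := this
    have hs : ∑ v : X, χ ⁅u, v⁆ = -∑ v : X, χ ⁅u, v⁆ := by
      rw [← Finset.sum_neg_distrib]
      refine (Fintype.sum_equiv (Equiv.mulLeft v₀) _ _ fun v => ?_).symm
      rw [Equiv.coe_mulLeft, h.comm_symm u, h.comm_symm u, h.comm_mul_left, h.comm_symm v₀,
        hv₀, neg_one_mul]
    rw [show ∑ v : X, χ ⁅u, v⁆ = 0 by omega, mul_zero, mul_zero]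

/-- `S = 0` when the squares are not all killed on the radical. -/
theorem sum_eq_zero {u : X} (hu : u ∈ h.radical) (hu' : χ (u ^ 2) = -1) : charSum χ = 0 := by
  classical
  letI := Fintype.ofFinite X
  have hs : (∑ w : X, if w ∈ h.radical then χ (w ^ 2) else 0) = 0 := by
    have : (∑ w : X, if w ∈ h.radical then χ (w ^ 2) else 0) =
        -∑ w : X, if w ∈ h.radical then χ (w ^ 2) else 0 := by
      rw [← Finset.sum_neg_distrib]
      refine (Fintype.sum_equiv (Equiv.mulLeft u) _ _ fun w => ?_).symm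
      rw [Equiv.coe_mulLeft]
      by_cases hw : w ∈ h.radical
      · rw [if_pos hw, if_pos (mul_mem hu hw), h.sq_mul, hu', h.mem_radical.mp hw, mul_one,
          neg_one_mul]
      · rw [if_neg hw, if_neg (fun hh => hw (by simpa using mul_mem (inv_mem hu) hh))]
        rfl
    omega
  have key := h.sum_sq_key
  rw [hs, mul_zero] at key
  exact pow_eq_zero_iff two_ne_zero |>.mp key

/-- `S ^ 2 = |X| |R|` otherwise. -/
theorem sum_sq (hu : ∀ u ∈ h.radical, χ (u ^ 2) = 1) :
    charSum χ ^ 2 = Nat.card X * Nat.card h.radical := by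
  classical
  letI := Fintype.ofFinite X
  rw [h.sum_sq_key, Nat.card_eq_fintype_card (α := h.radical), Fintype.card_subtype]
  congr 1
  rw [← Finset.sum_filter, Finset.sum_congr rfl fun w hw => hu w (Finset.mem_filter.mp hw).2]
  simp

theorem card_radical_pow (hX : IsPGroup 2 X) : ∃ r, Nat.card h.radical = 2 ^ r :=
  haveI : Fact (Nat.Prime 2) := ⟨Nat.prime_two⟩
  H24.exists_card_pow hX h.radical

theorem card_radical_ne_half : Nat.card X ≠ 2 * Nat.card h.radical := by
  intro hcard
  have hi : h.radical.index = 2 := by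
    have := card_mul_index h.radical
    rw [hcard, mul_comm 2] at this
    exact Nat.eq_of_mul_eq_mul_left Nat.card_pos this
  obtain ⟨u, hu⟩ : ∃ u, u ∉ h.radical := by
    by_contra hno
    push Not at hno
    rw [(eq_top_iff' _).mpr hno, index_top] at hi
    omega
  refine hu fun v => ?_
  by_cases hv : v ∈ h.radical
  · rw [h.comm_symm]; exact hv u
  · have hvu : u⁻¹ * v ∈ h.radical := by
      rw [mul_mem_iff_of_index_two hi, inv_mem_iff]
      exact ⟨fun a => absurd a hu, fun a => absurd a hv⟩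
    have e := h.comm_mul_left u (u⁻¹ * v) u
    rw [mul_inv_cancel_left, hvu u, commutatorElement_self, h.one, one_mul] at e
    rw [h.comm_symm]; exact e

/-- The absolute value of the sum when it is nonzero. -/
theorem natAbs_eq (hX : IsPGroup 2 X) {N : ℕ} (hN : Nat.card X = 2 ^ N) :
    (charSum χ = 0 ∧ ∃ u ∈ h.radical, χ (u ^ 2) = -1) ∨
      ∃ m r, Nat.card h.radical = 2 ^ r ∧ 2 * m = N + r ∧
        (charSum χ).natAbs = 2 ^ m := by
  obtain ⟨r, hr⟩ := h.card_radical_pow hX
  by_cases hu : ∀ u ∈ h.radical, χ (u ^ 2) = 1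
  · right
    have e := h.sum_sq hu
    rw [hN, hr] at e
    have e' : (charSum χ).natAbs ^ 2 = 2 ^ (N + r) := by
      rw [← Int.natAbs_pow, e, pow_add]
      simp [Int.natAbs_mul, Int.natAbs_pow]
    obtain ⟨m, -, hm⟩ := (Nat.dvd_prime_pow Nat.prime_two).mp
      (e' ▸ dvd_pow_self _ two_ne_zero : (charSum χ).natAbs ∣ 2 ^ (N + r))
    rw [hm, ← pow_mul] at e'
    exact ⟨m, r, hr, by have := Nat.pow_right_injective le_rfl e'; omega, hm⟩
  · push Not at hu
    obtain ⟨u, hu, hu'⟩ := hu
    have hu'' := (h.val _).resolve_left hu'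
    exact Or.inl ⟨h.sum_eq_zero hu hu'', u, hu, hu''⟩

end SqChar

open Classical in
/-- The character of a four-group with kernel `{1, e}`. -/
noncomputable def fourChar (e : X) : X → ℤ := fun y => if y = 1 ∨ y = e then 1 else -1

theorem fourChar_eq_one_iff {e y : X} : fourChar e y = 1 ↔ y = 1 ∨ y = e := by
  unfold fourChar
  split_ifs with h <;> simp [h]

variable [Finite X] {E : Subgroup X} (hE4 : Nat.card E = 4) (hEe : ∀ e ∈ E, e ^ 2 = 1)
  (hEZ : E ≤ center X) (hsq : ∀ x : X, x ^ 2 ∈ E)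

include hE4 hEe hEZ hsq in
theorem fourChar_sqChar {e : X} (he : e ∈ E) (he1 : e ≠ 1) : SqChar E (fourChar e) where
  central := hEZ
  sq := hsq
  val := fun y => by unfold fourChar; split_ifs <;> simp
  one := fourChar_eq_one_iff.mpr (Or.inl rfl)
  mul := fun y hy y' hy' => by
    have hee : e * e = 1 := by rw [← sq]; exact hEe e he
    set P := zpowers (⟨e, he⟩ : E)
    have hP : ∀ w : E, w ∈ P ↔ ((w : X) = 1 ∨ (w : X) = e) := fun w => by
      constructor
      · intro hw
        obtain ⟨i, rfl⟩ := mem_zpowers_iff.mp hw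
        rcases Int.even_or_odd i with ⟨j, rfl⟩ | ⟨j, rfl⟩
        · left; simp [← two_mul, zpow_mul, hEe e he, zpow_ofNat]
        · right; simp [zpow_add, zpow_mul, hEe e he, zpow_ofNat]
      · rintro (hw | hw)
        · rw [show w = 1 from Subtype.ext hw]; exact one_mem P
        · rw [show w = ⟨e, he⟩ from Subtype.ext hw]; exact mem_zpowers _
    have ho : orderOf (⟨e, he⟩ : E) = 2 := orderOf_eq_prime
      (Subtype.ext (by simpa using hEe e he)) fun h => he1 (congrArg Subtype.val h)
    have hi : P.index = 2 := by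
      have := card_mul_index P
      rw [Nat.card_zpowers, ho, hE4] at this
      omega
    have key := mul_mem_iff_of_index_two hi (a := ⟨y, hy⟩) (b := ⟨y', hy'⟩)
    simp only [hP, Subgroup.coe_mul] at key
    unfold fourChar
    split_ifs <;> simp_all

include hE4 hEe in
theorem exists_four_basis : ∃ a ∈ E, ∃ b ∈ E, a ≠ 1 ∧ b ≠ 1 ∧ a ≠ b := by
  obtain ⟨a, ha, ha1⟩ := (bot_or_exists_ne_one E).resolve_left fun h => by
    rw [h, card_bot] at hE4; omega
  refine ⟨a, ha, ?_⟩
  by_contra hno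
  push Not at hno
  have hle : E ≤ zpowers a := fun b hb => by
    by_cases hb1 : b = 1
    · rw [hb1]; exact one_mem _
    · rw [← hno b hb ha1 hb1]; exact mem_zpowers a
  have := card_le_of_le hle
  rw [Nat.card_zpowers, hE4] at this
  have := Nat.le_of_dvd two_pos (orderOf_dvd_of_pow_eq_one (hEe a ha))
  omega

include hE4 hEe hsq in
/-- The three sums count the square roots of one. -/
theorem sum_chars {a b : X} (ha : a ∈ E) (hb : b ∈ E) (ha1 : a ≠ 1) (hb1 : b ≠ 1) (hab : a ≠ b)
    (hinv : ∀ y : X, y ^ 2 = 1 → y ∈ E) :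
    (Nat.card X : ℤ) + charSum (fourChar a) + charSum (fourChar b) + charSum (fourChar (a * b))
      = 16 := by
  classical
  letI := Fintype.ofFinite X
  have hab1 : a * b ≠ 1 := fun h => hab (by
    rw [← mul_left_cancel_iff (a := a), h, ← sq, hEe a ha])
  have key : ∀ y ∈ E, 1 + fourChar a y + fourChar b y + fourChar (a * b) y =
      if y = 1 then 4 else 0 := by
    intro y hy
    rcases four_cases hE4 ha hb ha1 hb1 hab hEe hy with rfl | rfl | rfl | rfl
    · simp [fourChar]
    · simp [fourChar, ha1, hab, show ¬ y = y * b from fun h => hb1 (left_eq_mul.mp h)]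
    · simp [fourChar, hb1, Ne.symm hab, show ¬ y = a * y from fun h => ha1 (right_eq_mul.mp h)]
    · simp [fourChar, hab1, show ¬ a * b = a from fun h => hb1 (mul_eq_left.mp h),
        show ¬ a * b = b from fun h => ha1 (mul_eq_right.mp h)]
  have hcount : (Finset.univ.filter fun x : X => x ^ 2 = 1).card = 4 := by
    rw [← Fintype.card_subtype, ← Nat.card_eq_fintype_card, ← hE4]
    exact Nat.card_congr (Equiv.subtypeEquivRight fun x => ⟨hinv x, hEe x⟩)
  calc _ = ∑ x : X, (1 + fourChar a (x ^ 2) + fourChar b (x ^ 2) + fourChar (a * b) (x ^ 2)) := by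
        simp only [Finset.sum_add_distrib, charSum, Nat.card_eq_fintype_card]
        simp
    _ = ∑ x : X, if x ^ 2 = 1 then (4 : ℤ) else 0 :=
        Finset.sum_congr rfl fun x _ => key _ (hsq x)
    _ = 16 := by rw [← Finset.sum_filter, Finset.sum_const, hcount]; rfl

include hE4 hEe hEZ hsq in
/-- Such a group has order 64 as soon as it is not of order 32. -/
theorem card_eq_sixtyfour (hX : IsPGroup 2 X) (hinv : ∀ y : X, y ^ 2 = 1 → y ∈ E)
    (hcomm : commutator X = E) (h32 : Nat.card X ≠ 32) : Nat.card X = 64 := by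
  haveI : Fact (Nat.Prime 2) := ⟨Nat.prime_two⟩
  obtain ⟨N, hN⟩ := IsPGroup.iff_card.mp hX
  obtain ⟨a, ha, b, hb, ha1, hb1, hab⟩ := exists_four_basis hE4 hEe
  have hab1 : a * b ≠ 1 := fun h => hab (by
    rw [← mul_left_cancel_iff (a := a), h, ← sq, hEe a ha])
  have hsum := sum_chars hE4 hEe hsq ha hb ha1 hb1 hab hinv
  rw [hN] at hsum h32 ⊢
  push_cast at hsum
  have hE2 : 2 ≤ N := by
    have := card_le_of_le (le_top : E ≤ ⊤)
    rw [card_top, hE4, hN] at this
    by_contra hc
    interval_cases N <;> omega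
  -- no character has full radical
  have hfull : ∀ e, e ∈ E → e ≠ 1 → ∀ h : SqChar E (fourChar e),
      Nat.card h.radical ≠ Nat.card X := fun e he he1 h hcard => by
    have htop : h.radical = ⊤ := eq_top_of_card_eq _ hcard
    have hle : commutator X ≤ zpowers e := by
      rw [commutator_def, commutator_le]
      intro u _ v _
      rcases fourChar_eq_one_iff.mp (h.mem_radical.mp (htop ▸ mem_top u) v) with e' | e' <;>
        simp [e', mem_zpowers]
    have := card_le_of_le hle
    rw [hcomm, hE4, Nat.card_zpowers] at this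
    have := Nat.le_of_dvd two_pos (orderOf_dvd_of_pow_eq_one (hEe e he))
    omega
  have hr : ∀ e, e ∈ E → e ≠ 1 → ∀ h : SqChar E (fourChar e), ∀ r, Nat.card h.radical = 2 ^ r →
      2 ≤ r ∧ r + 2 ≤ N := by
    intro e he he1 h r hr
    have h1 := card_le_of_le (hEZ.trans h.center_le_radical)
    have h2 := card_le_of_le (le_top : h.radical ≤ ⊤)
    rw [card_top, hN, hr] at h2
    rw [hE4, hr] at h1
    have h2' := (Nat.pow_le_pow_iff_right (le_refl 2)).mp h2
    have hr2 : 2 ≤ r := (Nat.pow_le_pow_iff_right (le_refl 2)).mp (show 2 ^ 2 ≤ 2 ^ r from h1)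
    refine ⟨hr2, ?_⟩
    have hne1 : r ≠ N := fun hh => hfull e he he1 h (by rw [hr, hN, hh])
    have hne2 : r + 1 ≠ N := fun hh => h.card_radical_ne_half (by rw [hr, hN, ← hh, pow_succ']; )
    omega
  have hN4 : 4 ≤ N := by
    obtain ⟨r, hr'⟩ := (fourChar_sqChar hE4 hEe hEZ hsq ha ha1).card_radical_pow hX
    have := hr a ha ha1 _ r hr'
    omega
  by_cases h6 : N = 6
  · subst h6; norm_num
  exfalso
  by_cases h4 : N = 4
  · subst h4
    have h8 : ∀ e, e ∈ E → e ≠ 1 → charSum (fourChar e) = 8 ∨ charSum (fourChar e) = -8 := by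
      intro e he he1
      have h := fourChar_sqChar hE4 hEe hEZ hsq he he1
      rcases h.natAbs_eq hX hN with ⟨-, u, hu, hu'⟩ | ⟨m, r, hr', hm, habs⟩
      · obtain ⟨r, hr'⟩ := h.card_radical_pow hX
        have := hr e he he1 h r hr'
        have hRE : h.radical = E := (eq_of_le_of_card_ge (hEZ.trans h.center_le_radical) (by
          rw [hr', hE4, show r = 2 by omega]; norm_num)).symm
        rw [hEe u (hRE ▸ hu), h.one] at hu'
        norm_num at hu'
      · have := hr e he he1 h r hr'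
        rw [show m = 3 by omega] at habs
        omega
    rcases h8 a ha ha1 with e1 | e1 <;> rcases h8 b hb hb1 with e2 | e2 <;>
      rcases h8 (a * b) (mul_mem ha hb) hab1 with e3 | e3 <;> rw [e1, e2, e3] at hsum <;>
      norm_num at hsum
  have h7 : 7 ≤ N := by
    have : N ≠ 5 := fun h5 => h32 (by rw [h5]; norm_num)
    omega
  have hdvd : ∀ e, e ∈ E → e ≠ 1 → (32 : ℤ) ∣ charSum (fourChar e) := by
    intro e he he1
    have h := fourChar_sqChar hE4 hEe hEZ hsq he he1
    rcases h.natAbs_eq hX hN with ⟨h0, -⟩ | ⟨m, r, hr', hm, habs⟩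
    · rw [h0]; exact dvd_zero _
    · have := hr e he he1 h r hr'
      refine (Int.ofNat_dvd_left (n := 32)).mpr ?_
      rw [habs]
      exact (show (32 : ℕ) = 2 ^ 5 by norm_num) ▸ pow_dvd_pow 2 (by omega : 5 ≤ m)
  have hX32 : (32 : ℤ) ∣ 2 ^ N := by
    rw [show (32 : ℤ) = 2 ^ 5 by norm_num]; exact pow_dvd_pow 2 (by omega)
  have := (((hX32.add (hdvd a ha ha1)).add (hdvd b hb hb1)).add
    (hdvd (a * b) (mul_mem ha hb) hab1))
  rw [hsum] at this
  norm_num at this

include hE4 hEe hEZ hsq in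
/-- In order 64 the centre is not of order 16. -/
theorem card_center_ne_sixteen (hX : IsPGroup 2 X) (hinv : ∀ y : X, y ^ 2 = 1 → y ∈ E)
    (h64 : Nat.card X = 64) : Nat.card (center X) ≠ 16 := by
  intro h16
  obtain ⟨a, ha, b, hb, ha1, hb1, hab⟩ := exists_four_basis hE4 hEe
  have hab1 : a * b ≠ 1 := fun h => hab (by
    rw [← mul_left_cancel_iff (a := a), h, ← sq, hEe a ha])
  have hsum := sum_chars hE4 hEe hsq ha hb ha1 hb1 hab hinv
  -- squaring maps the centre onto `E`
  let σ : center X →* X :=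
    { toFun := fun z => (z : X) ^ 2
      map_one' := by simp
      map_mul' := fun z w => (show Commute (z : X) w from
        (mem_center_iff.mp z.2 w).symm).mul_pow 2 }
  have hrange : σ.range = E := by
    refine eq_of_le_of_card_ge (by rintro _ ⟨z, rfl⟩; exact hsq _) ?_
    have h1 := card_mul_index σ.ker
    rw [index_ker, h16] at h1
    have h2 : Nat.card σ.ker ≤ 4 := by
      rw [← hE4]
      exact Nat.card_le_card_of_injective (fun z => (⟨z.1, hinv _ z.2⟩ : E))
        fun z w hzw => Subtype.ext (Subtype.ext (congrArg Subtype.val hzw :))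
    rw [hE4]
    by_contra hc
    have := Nat.mul_le_mul h2 (show Nat.card σ.range ≤ 3 by omega)
    omega
  have h0 : ∀ e, e ∈ E → e ≠ 1 → ∀ e' ∈ E, e' ≠ 1 → e' ≠ e → charSum (fourChar e) = 0 := by
    intro e he he1 e' he' he'1 hne
    have h := fourChar_sqChar hE4 hEe hEZ hsq he he1
    obtain ⟨z, hz⟩ := hrange.ge he'
    have hz' : (z : X) ^ 2 = e' := hz
    refine h.sum_eq_zero (h.center_le_radical z.2) ((h.val _).resolve_left fun hz1 => ?_)
    rcases fourChar_eq_one_iff.mp hz1 with hh | hh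
    · exact he'1 (hz'.symm.trans hh)
    · exact hne (hz'.symm.trans hh)
  rw [h0 a ha ha1 b hb hb1 hab.symm, h0 b hb hb1 a ha ha1 hab,
    h0 (a * b) (mul_mem ha hb) hab1 a ha ha1 (fun h => hb1 (left_eq_mul.mp h)), h64] at hsum
  norm_num at hsum

end Cfsg.Agent.H53.OddAct
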