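import Cfsg.Agent.H53.OddActionCount
import Cfsg.Agent.H53.OddActionLift

/-!
# Nonabelian 2-groups without a normal `E₈` generated by commutators with an odd automorphism group
-/

set_option autoImplicit false
set_option linter.style.haveILetI false
set_option linter.unusedSectionVars false
open Subgroup
open scoped commutatorElement

namespace Cfsg.Agent.H53.OddAct

variable {X : Type*} [Group X] [Finite X] {A : Subgroup (MulAut X)}

theorem invol_count : Nat.card {x : X // orderOf x = 2} + 1 = Nat.card {x : X // x ^ 2 = 1} := by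
  classical
  have := Fintype.ofFinite X
  simp only [Nat.card_eq_fintype_card, Fintype.card_subtype]
  have h : (Finset.univ.filter fun x : X => x ^ 2 = 1) =
      insert 1 (Finset.univ.filter fun x : X => orderOf x = 2) := by
    ext x
    simp only [Finset.mem_filter, Finset.mem_univ, true_and, Finset.mem_insert]
    constructor
    · intro hx
      exact (eq_or_ne x 1).imp id fun h1 => orderOf_eq_prime hx h1
    · rintro (rfl | hx)
      · exact one_pow 2
      · rw [← hx, pow_orderOf_eq_one]
  rw [h, Finset.card_insert_of_notMem (by simp)]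

theorem mem_cent_singleton {a x : X} : a ∈ centralizer ({x} : Set X) ↔ x * a = a * x := by
  simp [mem_centralizer_iff, Set.mem_singleton_iff]

theorem card_sup_zpowers_le {D : Subgroup X} [D.Normal] {y : X} (hy : y ^ 2 ∈ D) :
    Nat.card (D ⊔ zpowers y : Subgroup X) ≤ Nat.card D * 2 := by
  haveI : Fact (Nat.Prime 2) := ⟨Nat.prime_two⟩
  rw [← H24.card_mul_relIndex (le_sup_left : D ≤ D ⊔ zpowers y), sup_comm D, relIndex_sup_right]
  exact Nat.mul_le_mul_left _ (H24.relIndex_zpowers_le hy)

namespace Ctx

variable (c : Ctx X A)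
include c

theorem fix_of_sq_fix {δ : MulAut X} (hδ : δ ∈ A) {y : X} (h : δ (δ y) = y) : δ y = y := by
  have h2 : ∀ j : ℕ, ((δ ^ 2) ^ j) y = y := by
    intro j
    induction j with
    | zero => simp
    | succ j ih => rw [pow_succ, MulAut.mul_apply, pow_two, MulAut.mul_apply, h, ← pow_two]; exact ih
  obtain ⟨k, hk⟩ := c.odd_orderOf hδ
  have h1 : (δ ^ orderOf δ) y = y := by rw [pow_orderOf_eq_one]; rfl
  rwa [hk, pow_succ', pow_mul, MulAut.mul_apply, h2] at h1

theorem pow_eq_one_of_odd {e : X} {n : ℕ} (hn : Odd n) (he : e ^ n = 1) (he2 : e ^ 2 = 1) :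
    e = 1 := by
  obtain ⟨k, hk⟩ := hn
  rwa [hk, pow_succ, pow_mul, he2, one_pow, one_mul] at he

/-- An element of `A` fixing the elements of order two of `K` fixes `K`. -/
theorem fix_of_fix_omega {K E : Subgroup X} (hKc : ∀ a ∈ K, ∀ b ∈ K, Commute a b)
    (hKi : Inv A K) (hom : ∀ k ∈ K, k ^ 2 = 1 → k ∈ E) {φ : MulAut X} (hφ : φ ∈ A)
    (hfix : ∀ e ∈ E, φ e = e) : ∀ k ∈ K, φ k = k := by
  have key : ∀ j : ℕ, ∀ k ∈ K, k ^ 2 ^ j = 1 → φ k = k := by
    intro j
    induction j with
    | zero => intro k _ h; rw [pow_zero, pow_one] at h; rw [h, map_one]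
    | succ j ih =>
      intro k hk h
      rw [pow_succ', pow_mul] at h
      set e := k⁻¹ * φ k with he
      have he2 : e ^ 2 = 1 := by
        rw [he, (hKc k hk _ (hKi φ hφ k hk)).inv_left.mul_pow, inv_pow, ← map_pow,
          ih _ (pow_mem hk 2) h, inv_mul_cancel]
      have hfe : φ e = e := hfix e (hom e (mul_mem (inv_mem hk) (hKi φ hφ k hk)) he2)
      have hk' : φ k = k * e := by rw [he, mul_inv_cancel_left]
      have hpow : ∀ i : ℕ, (φ ^ i) k = k * e ^ i := by
        intro i
        induction i with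
        | zero => simp
        | succ i ih' => rw [pow_succ', MulAut.mul_apply, ih', map_mul, map_pow, hfe, hk',
            mul_assoc, ← pow_succ']
      have h1 := hpow (orderOf φ)
      rw [pow_orderOf_eq_one, MulAut.one_apply, left_eq_mul] at h1
      rw [hk', c.pow_eq_one_of_odd (c.odd_orderOf hφ) h1 he2, mul_one]
  intro k hk
  obtain ⟨j, hj⟩ := c.isPGroup k
  exact key j k hk hj

/-- An element whose coset modulo `Z` is fixed by `A` is central. -/
theorem coset_central {Z : Subgroup X} (hZ : Z ≤ center X) (hfix : ∀ φ ∈ A, ∀ e ∈ Z, φ e = e)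
    (hcomm : ∀ x y : X, ⁅x, y⁆ ∈ Z) {u : X} (hu : ∀ φ ∈ A, u⁻¹ * φ u ∈ Z) : u ∈ center X := by
  let f : X →* X :=
    { toFun := fun g => ⁅g, u⁆
      map_one' := by simp
      map_mul' := fun g h => by
        calc ⁅g * h, u⁆ = g * ⁅h, u⁆ * g⁻¹ * ⁅g, u⁆ := by simp [commutatorElement_def, mul_assoc]
          _ = ⁅g, u⁆ * ⁅h, u⁆ := by
            rw [mem_center_iff.mp (hZ (hcomm h u)) g, mul_inv_cancel_right,
              mem_center_iff.mp (hZ (hcomm h u)) ⁅g, u⁆] }
  refine mem_center_iff.mpr fun g => commutatorElement_eq_one_iff_mul_comm.mp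
    (c.hom_eq_one f (fun φ hφ x => ?_) g)
  show ⁅φ x, u⁆ = ⁅x, u⁆
  set z := u⁻¹ * φ u with hz
  have hzc : ∀ w, w * z = z * w := mem_center_iff.mp (hZ (hu φ hφ))
  have e1 : φ u = u * z := by rw [hz, mul_inv_cancel_left]
  calc ⁅φ x, u⁆ = ⁅φ x, u * z⁆ := by
        simp only [commutatorElement_def, mul_inv_rev]
        rw [mul_assoc (φ x) (u * z), mul_assoc u z, ← hzc (φ x)⁻¹]
        simp [mul_assoc]
    _ = φ ⁅x, u⁆ := by rw [map_comm, e1]
    _ = ⁅x, u⁆ := hfix φ hφ _ (hcomm x u)

/-- The final structure over a four-group `E`. -/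
theorem special_of_four {E : Subgroup X} (hEZ : E ≤ center X) (hE4 : Nat.card E = 4)
    (hEe : ∀ e ∈ E, e ^ 2 = 1) (hsq : ∀ x : X, x ^ 2 ∈ E) (hinv : ∀ y : X, y ^ 2 = 1 → y ∈ E)
    (hX' : commutator X = E) (hZ : center X = E) (h64 : Nat.card X = 64) :
    Cfsg.IsSpecial 2 X ∧ Nat.card X = 64 ∧ Nat.card {x : X // orderOf x = 2} = 3 ∧
      ∀ x : X, orderOf x = 2 → x ∈ center X := by
  haveI : Fact (Nat.Prime 2) := ⟨Nat.prime_two⟩
  refine ⟨⟨c.isPGroup, ?_, hX'.trans hZ.symm⟩, h64, ?_, fun x hx => ?_⟩
  · rw [hZ]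
    refine le_antisymm (H24.frattini_le_of E hX'.le hsq) ?_
    rw [← hX']
    exact H24.commutator_le_frattini c.isPGroup
  · have h := invol_count (X := X)
    rw [Nat.card_congr (Equiv.subtypeEquivRight
      (fun x => (⟨hinv x, hEe x⟩ : x ^ 2 = 1 ↔ x ∈ E))), hE4] at h
    omega
  · exact hEZ (hinv x (by rw [← hx, pow_orderOf_eq_one]))

/-- The case of a fixed four-group. -/
theorem of_fixed_four {E : Subgroup X} (hE4 : Nat.card E = 4) (hfix : ∀ φ ∈ A, ∀ e ∈ E, φ e = e)
    (hEe : ∀ e ∈ E, e ^ 2 = 1) (hsq : ∀ x : X, x ^ 2 ∈ E) (hX' : commutator X = E)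
    (hZ : center X = E) :
    Cfsg.IsSpecial 2 X ∧ Nat.card X = 64 ∧ Nat.card {x : X // orderOf x = 2} = 3 ∧
      ∀ x : X, orderOf x = 2 → x ∈ center X := by
  haveI : Fact (Nat.Prime 2) := ⟨Nat.prime_two⟩
  have hEZ : E ≤ center X := hZ.ge
  have hinv : ∀ y : X, y ^ 2 = 1 → y ∈ E := fun y hy =>
    c.involution_mem hEZ hE4 hEe hy fun g => hX' ▸ commutator_mem_commutator (mem_top y) (mem_top g)
  refine c.special_of_four hEZ hE4 hEe hsq hinv hX' hZ
    (card_eq_sixtyfour hE4 hEe hEZ hsq c.isPGroup hinv hX' fun h32 => c.nonab ?_)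
  have hN : Nat.card X = 2 ^ 5 := by rw [h32]; norm_num
  obtain ⟨a, ha, b, hb, ha1, hb1, hab⟩ := exists_four_basis hE4 hEe
  have hker : ∀ e, e ∈ E → e ≠ 1 → ∀ u v : X, ⁅u, v⁆ = 1 ∨ ⁅u, v⁆ = e := by
    intro e he he1
    have h := fourChar_sqChar hE4 hEe hEZ hsq he he1
    have htop : h.radical = ⊤ := by
      obtain ⟨r, hr⟩ := h.card_radical_pow c.isPGroup
      have hle := hEZ.trans h.center_le_radical
      have h1 := card_le_of_le hle
      have h2 := card_le_of_le (le_top : h.radical ≤ ⊤)
      rw [card_top, hN, hr] at h2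
      rw [hE4, hr] at h1
      have hr5 := (Nat.pow_le_pow_iff_right (le_refl 2)).mp h2
      have hr2 : 2 ≤ r := (Nat.pow_le_pow_iff_right (le_refl 2)).mp (show 2 ^ 2 ≤ 2 ^ r from h1)
      have hr4 : r ≠ 4 := fun h4 => h.card_radical_ne_half (by rw [hr, hN, h4]; norm_num)
      have hr2' : r ≠ 2 := fun h2 => by
        have hRE : h.radical = E := (eq_of_le_of_card_ge hle (by rw [hr, hE4, h2]; norm_num)).symm
        rcases h.natAbs_eq c.isPGroup hN with ⟨-, u, hu, hu'⟩ | ⟨m, r', hr', hm, -⟩
        · rw [hEe u (hRE ▸ hu), h.one] at hu'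
          norm_num at hu'
        · have := Nat.pow_right_injective le_rfl (hr'.symm.trans hr)
          omega
      have hr3 : r ≠ 3 := fun h3 => by
        obtain ⟨u, hu, huE⟩ : ∃ u ∈ h.radical, u ∉ E := by
          by_contra hno
          push Not at hno
          have := card_le_of_le (show h.radical ≤ E from hno)
          rw [hr, hE4, h3] at this
          omega
        refine huE (hZ ▸ c.coset_central hEZ hfix h.comm_mem fun φ hφ => ?_)
        have hi : (E.subgroupOf h.radical).index = 2 := by
          have := card_mul_index (E.subgroupOf h.radical)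
          rw [Nat.card_congr (subgroupOfEquivOfLe hle).toEquiv, hE4, hr, h3] at this
          omega
        have hφu : φ u ∈ h.radical := fun v => by
          obtain ⟨v, rfl⟩ := φ.surjective v
          rw [← map_comm, hfix φ hφ _ (h.comm_mem u v)]
          exact hu v
        have hφE : φ u ∉ E := fun hh => huE (by
          have := φ.injective (hfix φ hφ _ hh)
          rwa [this] at hh)
        have := mul_mem_iff_of_index_two hi (a := (⟨u, hu⟩ : h.radical)⁻¹) (b := ⟨φ u, hφu⟩)
        simp only [mem_subgroupOf, Subgroup.coe_mul, InvMemClass.coe_inv, inv_mem_iff] at this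
        exact this.mpr ⟨fun hh => absurd hh huE, fun hh => absurd hh hφE⟩
      exact eq_top_of_card_eq _ (by rw [hr, hN, show r = 5 by omega])
    exact fun u v => fourChar_eq_one_iff.mp (h.mem_radical.mp (htop ▸ mem_top u) v)
  refine ⟨⟨fun u v => ?_⟩⟩
  rcases hker a ha ha1 u v with e | e
  · exact commutatorElement_eq_one_iff_mul_comm.mp e
  · rcases hker b hb hb1 u v with e' | e'
    · exact commutatorElement_eq_one_iff_mul_comm.mp e'
    · exact absurd (e.symm.trans e') hab

/-- The extraspecial case. -/
theorem of_extraspecial (h : Cfsg.IsExtraspecial 2 X) (hfix : ∀ φ ∈ A, ∀ z ∈ center X, φ z = z) :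
    Nonempty (X ≃* QuaternionGroup 2) ∨
      (Cfsg.IsExtraspecial 2 X ∧ Nat.card X = 32 ∧ Nat.card {x : X // orderOf x = 2} = 11) := by
  classical
  haveI : Fact (Nat.Prime 2) := ⟨Nat.prime_two⟩
  letI := Fintype.ofFinite X
  obtain ⟨z, hz, hz1⟩ := H24.espec_exists_center h
  obtain ⟨n, hn, hN⟩ := H24.espec_card h
  have hsq : ∀ x : X, x ^ 2 ∈ center X := H24.espec_pow_mem h
  have hcomm : ∀ x y : X, ⁅x, y⁆ ∈ center X := H24.espec_comm_mem h
  have hzz : ∀ w ∈ center X, w ^ 2 = 1 := fun w hw => H24.pow_eq_one_of_card_eq h.2 hw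
  have hcases : ∀ w ∈ center X, w = 1 ∨ w = z := by
    intro w hw
    rw [← H24.zpowers_eq_of_card_prime h.2 hz hz1] at hw
    obtain ⟨i, rfl⟩ := mem_zpowers_iff.mp hw
    rcases Int.even_or_odd i with ⟨j, rfl⟩ | ⟨j, rfl⟩
    · left; simp [← two_mul, zpow_mul, hzz z hz, zpow_ofNat]
    · right; simp [zpow_add, zpow_mul, hzz z hz, zpow_ofNat]
  set χ : X → ℤ := fun y => if y = 1 then 1 else -1 with hχ
  have hc : SqChar (center X) χ :=
    { central := le_rfl
      sq := hsq
      val := fun y => by simp only [hχ]; split_ifs <;> simp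
      one := by simp [hχ]
      mul := fun y hy y' hy' => by
        rcases hcases y hy with rfl | rfl <;> rcases hcases y' hy' with rfl | rfl <;>
          simp [hχ, hz1, ← pow_two, hzz _ hz] }
  have hR : hc.radical = center X := by
    refine le_antisymm (fun u hu => mem_center_iff.mpr fun v => ?_) hc.center_le_radical
    have h1 := hu v
    simp only [hχ] at h1
    split_ifs at h1 with h2
    exact (commutatorElement_eq_one_iff_mul_comm.mp h2).symm
  have hS2 := hc.sum_sq fun u hu => by
    rw [hzz u (hR ▸ hu)]; exact hc.one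
  rw [hR, h.2, hN] at hS2
  set q := Nat.card {x : X // x ^ 2 = 1} with hq
  have hS : charSum χ = 2 * (q : ℤ) - (2 : ℤ) ^ (2 * n + 1) := by
    have e1 : (Nat.card X : ℤ) = 2 ^ (2 * n + 1) := by rw [hN]; push_cast; ring
    rw [← e1, hq, Nat.card_eq_fintype_card, Nat.card_eq_fintype_card, Fintype.card_subtype]
    have e2 : charSum χ = ∑ x : X, χ (x ^ 2) := by unfold charSum; congr!
    rw [e2]
    calc ∑ x : X, χ (x ^ 2) = ∑ x : X, (2 * (if x ^ 2 = 1 then (1 : ℤ) else 0) - 1) :=
          Finset.sum_congr rfl fun x _ => by simp only [hχ]; split_ifs <;> norm_num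
      _ = _ := by rw [Finset.sum_sub_distrib, ← Finset.mul_sum, Finset.sum_boole]; simp
  -- centralisers of non-central involutions are small
  have hsmall : ∀ x : X, x ^ 2 = 1 → x ∉ center X →
      Nat.card X ≤ 2 * Nat.card (centralizer ({x} : Set X)) ∧
      Nat.card (centralizer ({x} : Set X)) ≤ 16 ∧
      (∀ y ∈ centralizer ({x} : Set X), y ^ 2 = 1 → y ∈ center X ⊔ zpowers x) ∧
      Nat.card (center X ⊔ zpowers x : Subgroup X) = 4 := by
    intro x hx hxZ
    set C := centralizer ({x} : Set X) with hC
    set D := center X ⊔ zpowers x with hD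
    have hxcent : x ∈ centralizer (center X : Set X) :=
      mem_centralizer_iff.mpr fun w hw => (mem_center_iff.mp hw x).symm
    have hDc := H24.isMulCommutative_sup_zpowers (inferInstance : IsMulCommutative (center X)) hxcent
    haveI hDn : D.Normal := Normal.of_commutator_le X (by
      rw [_root_.commutator_def, commutator_le]; exact fun u _ v _ => mem_sup_left (hcomm u v))
    have hD2 : ∀ w ∈ D, w ^ 2 = 1 := by
      intro w hw
      obtain ⟨e, he, v, hv, rfl⟩ := mem_sup_of_normal_left.mp hw
      obtain ⟨i, rfl⟩ := mem_zpowers_iff.mp hv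
      rw [(show Commute e (x ^ i) from (mem_center_iff.mp he _).symm).mul_pow, hzz e he, one_mul,
        ← zpow_natCast, ← zpow_mul, mul_comm, zpow_mul, zpow_natCast, hx, one_zpow]
    have hD4 : Nat.card D = 4 := by
      have h1 : Nat.card (center X) * (center X).relIndex D = Nat.card D :=
        H24.card_mul_relIndex (le_sup_left : center X ≤ center X ⊔ zpowers x)
      have h2 := H24.le_relIndex_of_lt c.isPGroup (H := center X) (K := D)
        fun hh => hxZ (hh (mem_sup_right (mem_zpowers x)))
      have h3 := card_sup_zpowers_le (D := center X) (y := x) (hsq x)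
      rw [← hD, h.2] at h3
      rw [h.2] at h1
      have := Nat.mul_le_mul_left 2 h2
      omega
    have hDC : D ≤ C := sup_le (fun w hw => mem_cent_singleton.mpr (mem_center_iff.mp hw x))
      (zpowers_le.mpr (mem_cent_singleton.mpr rfl))
    have hin : ∀ y ∈ C, y ^ 2 = 1 → y ∈ D := by
      intro y hy hy2
      by_contra hyD
      have hyc : y ∈ centralizer (D : Set X) := by
        have : D ≤ centralizer ({y} : Set X) := sup_le
          (fun w hw => mem_cent_singleton.mpr (mem_center_iff.mp hw y))
          (zpowers_le.mpr (mem_cent_singleton.mpr (mem_cent_singleton.mp hy).symm))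
        exact mem_centralizer_iff.mpr fun w hw => (mem_cent_singleton.mp (this hw)).symm
      have hc' := H24.isMulCommutative_sup_zpowers hDc hyc
      haveI : (D ⊔ zpowers y).Normal := Normal.of_commutator_le X (by
        rw [_root_.commutator_def, commutator_le]
        exact fun u _ v _ => mem_sup_left (mem_sup_left (hcomm u v)))
      have hel : Cfsg.IsElementaryAbelian 2 (D ⊔ zpowers y) := by
        refine ⟨hc', fun w hw => ?_⟩
        obtain ⟨e, he, v, hv, rfl⟩ := mem_sup_of_normal_left.mp hw
        obtain ⟨i, rfl⟩ := mem_zpowers_iff.mp hv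
        have hce : Commute e y := mem_centralizer_iff.mp hyc e he
        rw [(hce.zpow_right i).mul_pow, hD2 e he, one_mul,
          ← zpow_natCast, ← zpow_mul, mul_comm, zpow_mul, zpow_natCast, hy2, one_zpow]
      have h1 := c.card_le_four hel
      have h2 := H24.card_mul_relIndex (le_sup_left : D ≤ D ⊔ zpowers y)
      have h3 := H24.le_relIndex_of_lt c.isPGroup (H := D) (K := D ⊔ zpowers y)
        fun hh => hyD (hh (mem_sup_right (mem_zpowers y)))
      have := Nat.mul_le_mul hD4.ge h3
      omega
    have hsqz : ∀ y ∈ C, y ∉ D → y ^ 2 = z := fun y hy hyD =>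
      (hcases _ (hsq y)).resolve_left fun hh => hyD (hin y hy hh)
    have hanti : ∀ y ∈ C, ∀ y' ∈ C, y ∉ D → y' ∉ D → y * y' ∉ D → ⁅y', y⁆ = z := by
      intro y hy y' hy' h1 h2 h3
      have e : (y * y') ^ 2 = y ^ 2 * y' ^ 2 * ⁅y', y⁆ := by
        have hcc := mem_center_iff.mp (hcomm y' y)
        calc (y * y') ^ 2 = y * ⁅y', y⁆ * (y * y' * y') := by
              simp [commutatorElement_def, pow_two, mul_assoc]
          _ = _ := by rw [mul_assoc, ← hcc (y * y' * y')]; simp [pow_two, mul_assoc]
      rw [hsqz _ (mul_mem hy hy') h3, hsqz y hy h1, hsqz y' hy' h2, ← pow_two, hzz z hz,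
        one_mul] at e
      exact e.symm
    refine ⟨?_, ?_, hin, hD4⟩
    · let f : X →* center X :=
        { toFun := fun g => ⟨⁅g, x⁆, hcomm g x⟩
          map_one' := by simp
          map_mul' := fun g g' => Subtype.ext (by
            calc ⁅g * g', x⁆ = g * ⁅g', x⁆ * g⁻¹ * ⁅g, x⁆ := by
                  simp [commutatorElement_def, mul_assoc]
              _ = ⁅g, x⁆ * ⁅g', x⁆ := by
                rw [mem_center_iff.mp (hcomm g' x) g, mul_inv_cancel_right,
                  mem_center_iff.mp (hcomm g' x) ⁅g, x⁆]) }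
      have h1 := card_mul_index f.ker
      rw [index_ker] at h1
      have h2 : Nat.card f.range ≤ 2 := (Finite.card_subtype_le _).trans h.2.le
      have h3 : f.ker ≤ C := fun g hg => mem_cent_singleton.mpr
        (commutatorElement_eq_one_iff_mul_comm.mp (congrArg Subtype.val hg)).symm
      calc Nat.card X = Nat.card f.ker * Nat.card f.range := h1.symm
        _ ≤ Nat.card C * 2 := Nat.mul_le_mul (card_le_of_le h3) h2
        _ = _ := mul_comm _ _
    · by_contra hbig
      push Not at hbig
      obtain ⟨y₁, hy₁, hy₁D⟩ : ∃ y ∈ C, y ∉ D := by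
        by_contra hno
        push Not at hno
        have := card_le_of_le (show C ≤ D from hno)
        omega
      obtain ⟨y₂, hy₂, hy₂D⟩ : ∃ y ∈ C, y ∉ D ⊔ zpowers y₁ := by
        by_contra hno
        push Not at hno
        have := card_le_of_le (show C ≤ D ⊔ zpowers y₁ from hno)
        have h3 := card_sup_zpowers_le (D := D) (y := y₁) (mem_sup_left (hsq y₁))
        rw [hD4] at h3
        omega
      have hy₂D' : y₂ ∉ D := fun hh => hy₂D (mem_sup_left hh)
      let ψ : C →* center X × center X :=
        { toFun := fun g => (⟨⁅(g : X), y₁⁆, hcomm _ _⟩, ⟨⁅(g : X), y₂⁆, hcomm _ _⟩)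
          map_one' := by simp [Prod.ext_iff, Subtype.ext_iff]
          map_mul' := fun g g' => by
            have e : ∀ y : X, ⁅(g : X) * g', y⁆ = ⁅(g : X), y⁆ * ⁅(g' : X), y⁆ := fun y => by
              calc ⁅(g : X) * g', y⁆ = g * ⁅(g' : X), y⁆ * (g : X)⁻¹ * ⁅(g : X), y⁆ := by
                    simp [commutatorElement_def, mul_assoc]
                _ = _ := by
                  rw [mem_center_iff.mp (hcomm g' y) g, mul_inv_cancel_right,
                    mem_center_iff.mp (hcomm g' y) ⁅(g : X), y⁆]
            simp [Prod.ext_iff, Subtype.ext_iff, e] }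
      have h1 := card_mul_index ψ.ker
      rw [index_ker] at h1
      have h2 : Nat.card ψ.range ≤ 4 := by
        refine (Finite.card_subtype_le _).trans ?_
        rw [Nat.card_prod, h.2]
      have h3 : Nat.card ψ.ker ≤ 4 := by
        rw [← hD4]
        refine Nat.card_le_card_of_injective (fun g => (⟨((g : C) : X), ?_⟩ : D)) ?_
        · by_contra hgD
          obtain ⟨⟨g, hg⟩, hgk⟩ := g
          have hk := MonoidHom.mem_ker.mp hgk
          simp only [ψ, MonoidHom.coe_mk, OneHom.coe_mk, Prod.mk_eq_one, Subtype.ext_iff,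
            OneMemClass.coe_one] at hk
          obtain ⟨k1, k2⟩ := hk
          have a1 : y₁ * g ∈ D := by
            by_contra hh
            exact hz1 ((hanti y₁ hy₁ g hg hy₁D hgD hh).symm.trans k1)
          have a2 : y₂ * g ∈ D := by
            by_contra hh
            exact hz1 ((hanti y₂ hy₂ g hg hy₂D' hgD hh).symm.trans k2)
          apply hy₂D
          have : y₂ = (y₂ * g) * (y₁ * g)⁻¹ * y₁ := by group
          rw [this]
          exact mul_mem (mem_sup_left (mul_mem a2 (inv_mem a1))) (mem_sup_right (mem_zpowers y₁))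
        · intro g g' hgg
          exact Subtype.ext (Subtype.ext (congrArg Subtype.val hgg :))
      have := Nat.mul_le_mul h3 h2
      omega
  have hS' : charSum χ = 2 ^ (n + 1) ∨ charSum χ = -(2 ^ (n + 1)) := by
    have : charSum χ ^ 2 = ((2 : ℤ) ^ (n + 1)) ^ 2 := by rw [hS2]; push_cast; ring
    exact sq_eq_sq_iff_eq_or_eq_neg.mp this
  have hex : 2 < q → ∃ x : X, x ^ 2 = 1 ∧ x ∉ center X := fun hq2 => by
    by_contra hno
    push Not at hno
    have : q ≤ 2 := by
      refine le_trans (Nat.card_le_card_of_injective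
        (fun x : {x : X // x ^ 2 = 1} => (⟨x.1, hno x.1 x.2⟩ : center X))
        fun a b hab => Subtype.ext (congrArg Subtype.val hab :)) h.2.le
    omega
  have hn2 : n ≤ 2 := by
    by_contra hn3
    push Not at hn3
    have hq2 : 2 < q := by
      have h3 : (2 : ℤ) ^ (n + 1) * 4 ≤ 2 ^ (2 * n + 1) := by
        rw [show (4 : ℤ) = 2 ^ 2 by norm_num, ← pow_add]
        exact pow_le_pow_right₀ (by norm_num) (by omega)
      have h4 : (16 : ℤ) ≤ 2 ^ (n + 1) := by
        rw [show (16 : ℤ) = 2 ^ 4 by norm_num]
        exact pow_le_pow_right₀ (by norm_num) (by omega)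
      rcases hS' with e | e <;> rw [e] at hS <;> omega
    obtain ⟨x, hx, hxZ⟩ := hex hq2
    obtain ⟨h1, h2, -, -⟩ := hsmall x hx hxZ
    have : 2 ^ 7 ≤ Nat.card X := hN ▸ Nat.pow_le_pow_right two_pos (by omega)
    omega
  rcases (show n = 1 ∨ n = 2 by omega) with rfl | rfl
  · -- order 8
    left
    norm_num [-Nat.card_eq_fintype_card] at hS hS' hN
    have hq2 : q = 2 := by
      by_contra hq2
      have hq6 : q = 6 := by rcases hS' with e | e <;> rw [e] at hS <;> omega
      -- the complement is a coset of the centre fixed by `A`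
      obtain ⟨w, hw⟩ : ∃ w : X, w ^ 2 ≠ 1 := by
        by_contra hno
        push Not at hno
        rw [hq, Nat.card_congr (Equiv.subtypeUnivEquiv hno), hN] at hq6
        omega
      have hcard : (Finset.univ.filter fun x : X => ¬ x ^ 2 = 1).card = 2 := by
        have := Finset.card_filter_add_card_filter_not (s := (Finset.univ : Finset X))
          fun x => x ^ 2 = 1
        rw [← Fintype.card_subtype, ← Nat.card_eq_fintype_card, ← hq, hq6, Finset.card_univ,
          ← Nat.card_eq_fintype_card, hN] at this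
        omega
      have hwz : (w * z) ^ 2 ≠ 1 := by
        rw [(show Commute w z from mem_center_iff.mp hz w).mul_pow, hzz z hz, mul_one]
        exact hw
      have hne : w ≠ w * z := fun hh => hz1 (left_eq_mul.mp hh)
      have hset : (Finset.univ.filter fun x : X => ¬ x ^ 2 = 1) = {w, w * z} := by
        refine (Finset.eq_of_subset_of_card_le ?_ (by rw [hcard, Finset.card_pair hne])).symm
        intro x hx
        simp only [Finset.mem_insert, Finset.mem_singleton] at hx
        rcases hx with rfl | rfl <;> simp [hw, hwz]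
      have hwc : w ∈ center X := c.coset_central le_rfl hfix hcomm fun φ hφ => by
        have hm : φ w ∈ (Finset.univ.filter fun x : X => ¬ x ^ 2 = 1) := by
          simp [← map_pow, hw]
        rw [hset] at hm
        simp only [Finset.mem_insert, Finset.mem_singleton] at hm
        rcases hm with e | e <;> simp [e, hz]
      exact hw (hzz w hwc)
    have hnoinv : ∀ x : X, x ∉ center X → x ^ 2 = z := fun x hx =>
      (hcases _ (hsq x)).resolve_left fun hh => by
        have h3 : 3 ≤ q := by
          rw [hq, Nat.card_eq_fintype_card, Fintype.card_subtype]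
          have hsub : ({1, z, x} : Finset X) ⊆ Finset.univ.filter fun y : X => y ^ 2 = 1 := by
            intro y hy
            simp only [Finset.mem_insert, Finset.mem_singleton] at hy
            rcases hy with rfl | rfl | rfl <;> simp [hzz _ hz, hh]
          refine le_trans ?_ (Finset.card_le_card hsub)
          rw [Finset.card_eq_three.mpr ⟨1, z, x, hz1.symm, fun e => hx (e ▸ one_mem _),
            fun e => hx (e ▸ hz), rfl⟩]
        omega
    obtain ⟨x, hx⟩ : ∃ x, x ∉ center X := by
      by_contra hno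
      push Not at hno
      exact H24.espec_center_ne_top h ((eq_top_iff' _).mpr hno)
    have hx2 := hnoinv x hx
    have hox : orderOf x = 2 * 2 := by
      refine orderOf_eq_prime_pow (p := 2) (n := 1) ?_ ?_
      · rw [pow_one, hx2]; exact hz1
      · rw [show 2 ^ (1 + 1) = 2 * 2 by norm_num, pow_mul, hx2, hzz z hz]
    have hc4 : Nat.card (zpowers x) = 4 := by rw [Nat.card_zpowers, hox]
    obtain ⟨y, hy⟩ : ∃ y, y ∉ zpowers x := by
      by_contra hno
      push Not at hno
      have := card_le_of_le (fun a _ => hno a : (⊤ : Subgroup X) ≤ zpowers x)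
      rw [card_top, hc4, hN] at this
      omega
    have hi : (zpowers x).index = 2 := by
      have := card_mul_index (zpowers x)
      rw [hc4, hN] at this
      omega
    have hzx : center X ≤ zpowers x := fun w hw => by
      rcases hcases w hw with rfl | rfl
      · exact one_mem _
      · rw [← hx2]; exact pow_mem (mem_zpowers x) 2
    have hy2 := hnoinv y (fun hh => hy (hzx hh))
    have hyx : y * x ∉ zpowers x := fun hh => hy (by simpa using mul_mem hh (inv_mem (mem_zpowers x)))
    have hyx2 := hnoinv (y * x) (fun hh => hyx (hzx hh))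
    refine H24.quaternion_of_relations 2 x y hox (by rw [← pow_two, hy2, hx2]) ?_ hy fun g => ?_
    · have e : y * x * y⁻¹ = (y * x) ^ 2 * x⁻¹ * (y ^ 2)⁻¹ := by simp [pow_two, mul_assoc]
      rw [e, hyx2, hy2, ← mem_center_iff.mp hz x⁻¹, mul_inv_cancel_right]
    · have hpow : ∀ w ∈ zpowers x, ∃ i : ℕ, w = x ^ i := fun w hw => by
        obtain ⟨i, hi⟩ := mem_powers_iff_mem_zpowers.mpr hw
        exact ⟨i, hi.symm⟩
      by_cases hg : g ∈ zpowers x
      · obtain ⟨i, hi⟩ := hpow g hg
        exact ⟨i, Or.inl hi⟩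
      · have : y⁻¹ * g ∈ zpowers x := by
          rw [mul_mem_iff_of_index_two hi, inv_mem_iff]
          exact ⟨fun hh => absurd hh hy, fun hh => absurd hh hg⟩
        obtain ⟨i, hi'⟩ := hpow _ this
        exact ⟨i, Or.inr (by rw [← hi', mul_inv_cancel_left])⟩
  · -- order 32
    right
    norm_num [-Nat.card_eq_fintype_card] at hS hS' hN
    refine ⟨h, hN, ?_⟩
    have hinvc := invol_count (X := X)
    have hq12 : q = 12 ∨ q = 20 := by rcases hS' with e | e <;> rw [e] at hS <;> omega
    rcases hq12 with hq12 | hq20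
    · omega
    · exfalso
      obtain ⟨x, hx, hxZ⟩ := hex (by omega)
      obtain ⟨h1, h2, hin, hD4⟩ := hsmall x hx hxZ
      set C := centralizer ({x} : Set X) with hC
      set D := center X ⊔ zpowers x with hD
      have hout : ∀ w, w ∉ C → w ^ 2 = 1 := by
        by_contra hno
        push Not at hno
        obtain ⟨w, hw, hw2⟩ := hno
        have hsub : (Finset.univ.filter fun y : X => y ^ 2 = 1) ⊆
            (Finset.univ.filter fun y : X => y ∈ D) ∪
              (Finset.univ.filter fun y : X => y ∉ C).erase w := by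
          intro y hy
          simp only [Finset.mem_filter, Finset.mem_univ, true_and] at hy
          simp only [Finset.mem_union, Finset.mem_filter, Finset.mem_univ, true_and,
            Finset.mem_erase]
          by_cases hyC : y ∈ C
          · exact Or.inl (hin y hyC hy)
          · exact Or.inr ⟨fun e => hw2 (e ▸ hy), hyC⟩
        have hle := (Finset.card_le_card hsub).trans (Finset.card_union_le _ _)
        rw [Finset.card_erase_of_mem (by simp [hw]), ← Fintype.card_subtype,
          ← Fintype.card_subtype, ← Nat.card_eq_fintype_card, ← Nat.card_eq_fintype_card, ← hq,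
          hq20, hD4] at hle
        have hsplit := Finset.card_filter_add_card_filter_not (s := (Finset.univ : Finset X))
          fun y => y ∈ C
        rw [← Fintype.card_subtype, ← Nat.card_eq_fintype_card, Finset.card_univ,
          ← Nat.card_eq_fintype_card, hN] at hsplit
        omega
      obtain ⟨w, hw⟩ : ∃ w, w ∉ C := by
        by_contra hno
        push Not at hno
        have := card_le_of_le (fun a _ => hno a : (⊤ : Subgroup X) ≤ C)
        rw [card_top, hN] at this
        omega
      have hz' : ∀ y ∈ C, y ∉ D → ⁅w, y⁆ = z := by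
        intro y hy hyD
        have hyw : y * w ∉ C := fun hh => hw (by simpa using mul_mem (inv_mem hy) hh)
        have e : (y * w) ^ 2 = y ^ 2 * w ^ 2 * ⁅w, y⁆ := by
          have hcc := mem_center_iff.mp (hcomm w y)
          calc (y * w) ^ 2 = y * ⁅w, y⁆ * (y * w * w) := by
                simp [commutatorElement_def, pow_two, mul_assoc]
            _ = _ := by rw [mul_assoc, ← hcc (y * w * w)]; simp [pow_two, mul_assoc]
        rw [hout _ hyw, hout w hw, (hcases _ (hsq y)).resolve_left fun hh => hyD (hin y hy hh),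
          mul_one] at e
        exact eq_comm.mp ((eq_inv_of_mul_eq_one_left e.symm).trans
          (inv_eq_of_mul_eq_one_right (by
            rcases hcases _ (hcomm w y) with hh | hh <;> rw [hh] <;>
              simp [← pow_two, hzz z hz])))
      obtain ⟨y₁, hy₁, hy₁D⟩ : ∃ y ∈ C, y ∉ D := by
        by_contra hno
        push Not at hno
        have := card_le_of_le (show C ≤ D from hno)
        omega
      obtain ⟨y₂, hy₂, hy₂D⟩ : ∃ y ∈ C, y ∉ D ⊔ zpowers y₁ := by
        by_contra hno
        push Not at hno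
        have := card_le_of_le (show C ≤ D ⊔ zpowers y₁ from hno)
        haveI : D.Normal := Normal.of_commutator_le X (by
          rw [_root_.commutator_def, commutator_le]; exact fun u _ v _ => mem_sup_left (hcomm u v))
        have h3 := card_sup_zpowers_le (D := D) (y := y₁) (mem_sup_left (hsq y₁))
        rw [hD4] at h3
        omega
      have h12 : y₁ * y₂ ∉ D := fun hh => hy₂D (by
        have := mul_mem (mem_sup_right (inv_mem (mem_zpowers y₁)) : y₁⁻¹ ∈ D ⊔ zpowers y₁)
          (mem_sup_left hh)
        simpa using this)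
      have hzne := hz' _ (mul_mem hy₁ hy₂) h12
      have hsum : ⁅w, y₁ * y₂⁆ = ⁅w, y₁⁆ * ⁅w, y₂⁆ := by
        calc ⁅w, y₁ * y₂⁆ = ⁅w, y₁⁆ * (y₁ * ⁅w, y₂⁆ * y₁⁻¹) := by
              simp [commutatorElement_def, mul_assoc]
          _ = _ := by rw [mem_center_iff.mp (hcomm w y₂) y₁, mul_inv_cancel_right]
      rw [hsum, hz' y₁ hy₁ hy₁D, hz' y₂ hy₂ (fun hh => hy₂D (mem_sup_left hh))] at hzne
      exact hz1 (mul_eq_left.mp hzne)

/-- The theorem. -/
theorem main :
    Nonempty (X ≃* QuaternionGroup 2) ∨
      (Cfsg.IsSpecial 2 X ∧ Nat.card X = 64 ∧ Nat.card {x : X // orderOf x = 2} = 3 ∧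
        ∀ x : X, orderOf x = 2 → x ∈ center X) ∨
      (Cfsg.IsExtraspecial 2 X ∧ Nat.card X = 32 ∧ Nat.card {x : X // orderOf x = 2} = 11) := by
  classical
  haveI : Fact (Nat.Prime 2) := ⟨Nat.prime_two⟩
  letI := Fintype.ofFinite X
  obtain ⟨K, ⟨hKn, hKi, hKab⟩, hmax⟩ := c.exists_maximal
  haveI := hKn
  have hKc : ∀ a ∈ K, ∀ b ∈ K, Commute a b := fun a ha b hb =>
    congrArg Subtype.val (hKab.is_comm.comm ⟨a, ha⟩ ⟨b, hb⟩)
  by_cases hfixK : ∀ φ ∈ A, ∀ k ∈ K, φ k = k
  · -- `A` fixes `K`
    have hKZ : K ≤ center X := c.fixed_le_center hfixK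
    have hZK : center X = K := hmax _ inferInstance (inv_center A) inferInstance hKZ
    have hsq : ∀ x : X, x ^ 2 ∈ K := c.sq_mem_of_maximal_central hKZ hKi hmax
    have hcomm : ∀ x y : X, ⁅x, y⁆ ∈ K := comm_mem_of_sq hsq
    have hX'K : commutator X ≤ K := by
      rw [_root_.commutator_def, commutator_le]; exact fun u _ v _ => hcomm u v
    -- commutators have order two
    let q : K →* X :=
      { toFun := fun k => (k : X) ^ 2
        map_one' := by simp
        map_mul' := fun a b => (hKc _ a.2 _ b.2).mul_pow 2 }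
    have hc2 : ∀ d ∈ commutator X, d ^ 2 = 1 := by
      have : commutator X ≤ q.ker.map K.subtype := by
        rw [_root_.commutator_def, commutator_le]
        intro u _ v _
        refine ⟨⟨⁅u, v⁆, hcomm u v⟩, ?_, rfl⟩
        show ⁅u, v⁆ ^ 2 = 1
        have h1 : (u * v * u⁻¹) ^ 2 = v ^ 2 := by
          rw [conj_pow, mem_center_iff.mp (hKZ (hsq v)) u, mul_inv_cancel_right]
        rw [show u * v * u⁻¹ = ⁅u, v⁆ * v by simp [commutatorElement_def, mul_assoc],
          (show Commute ⁅u, v⁆ v from (mem_center_iff.mp (hKZ (hcomm u v)) v).symm).mul_pow] at h1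
        simpa using h1
      intro d hd
      obtain ⟨d', hd', rfl⟩ := this hd
      exact hd'
    set S := q.range ⊔ commutator X with hSdef
    have hqK : q.range ≤ K := by rintro _ ⟨k, rfl⟩; exact pow_mem k.2 2
    haveI : q.range.Normal := H24.normal_of_le_center (hqK.trans hKZ)
    haveI hSn : S.Normal := Normal.of_commutator_le X le_sup_right
    haveI : IsMulCommutative (X ⧸ S) := ⟨⟨fun a b => by
      induction a using QuotientGroup.induction_on with
      | _ a =>
        induction b using QuotientGroup.induction_on with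
        | _ b =>
          rw [← QuotientGroup.mk_mul, ← QuotientGroup.mk_mul, QuotientGroup.eq]
          have : (a * b)⁻¹ * (b * a) = ⁅b⁻¹, a⁻¹⁆ := by simp [commutatorElement_def, mul_assoc]
          rw [this]
          exact mem_sup_right (commutator_mem_commutator (mem_top _) (mem_top _))⟩⟩
    letI : CommGroup (X ⧸ S) := { QuotientGroup.Quotient.group S with mul_comm := mul_comm' }
    let f2 : X →* X ⧸ S :=
      { toFun := fun x => (QuotientGroup.mk' S x) ^ 2
        map_one' := by simp
        map_mul' := fun a b => by rw [map_mul, mul_pow] }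
    have hsqS : ∀ x : X, x ^ 2 ∈ S := fun x => by
      have h1 := c.hom_eq_one f2 (fun φ hφ y => by
        show (QuotientGroup.mk' S (φ y)) ^ 2 = (QuotientGroup.mk' S y) ^ 2
        rw [← map_pow, ← map_pow, ← map_pow, hfixK φ hφ _ (hsq y)]) x
      change (QuotientGroup.mk' S x) ^ 2 = 1 at h1
      rwa [← map_pow, QuotientGroup.mk'_apply, QuotientGroup.eq_one_iff] at h1
    have hKS : K ≤ S := fun k hk => by
      have h1 := c.fixed_eq_one (QuotientGroup.mk' S) (x := k) (by
        rw [← map_mul, QuotientGroup.mk'_apply, QuotientGroup.eq_one_iff, ← pow_two]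
        exact hsqS k) (fun φ hφ => by rw [hfixK φ hφ k hk])
      rwa [QuotientGroup.mk'_apply, QuotientGroup.eq_one_iff] at h1
    have hK2 : ∀ k ∈ K, k ^ 2 = 1 := by
      have step : ∀ j : ℕ, ∀ k ∈ K, ∃ m ∈ K, k ^ 2 = m ^ 2 ^ (j + 1) := by
        intro j
        induction j with
        | zero => exact fun k hk => ⟨k, hk, by simp⟩
        | succ j ih =>
          intro k hk
          obtain ⟨m, hm, e⟩ := ih k hk
          obtain ⟨s, ⟨m', rfl⟩, d, hd, hmd⟩ := mem_sup_of_normal_left.mp (hKS hm)
          refine ⟨m', m'.2, ?_⟩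
          have hcm : Commute (q m') d := hKc _ (hqK ⟨m', rfl⟩) _ (hX'K hd)
          have hd1 : d ^ 2 ^ (j + 1) = 1 := by rw [pow_succ', pow_mul, hc2 d hd, one_pow]
          rw [e, ← hmd, hcm.mul_pow, hd1, mul_one]
          show ((m' : X) ^ 2) ^ 2 ^ (j + 1) = _
          rw [← pow_mul, ← pow_succ']
      intro k hk
      obtain ⟨N, hN⟩ := IsPGroup.iff_card.mp c.isPGroup
      obtain ⟨m, -, e⟩ := step N k hk
      rw [e, pow_succ, pow_mul, ← hN, pow_card_eq_one', one_pow]
    have hKX' : commutator X = K := by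
      refine le_antisymm hX'K (hKS.trans (sup_le ?_ le_rfl))
      rintro _ ⟨k, rfl⟩
      show (k : X) ^ 2 ∈ _
      rw [hK2 k k.2]
      exact one_mem _
    obtain ⟨r, hr⟩ := H24.exists_card_pow c.isPGroup K
    have hK4 := c.card_le_four (N := K) ⟨hKab, hK2⟩
    have hr0 : r ≠ 0 := fun h0 => by
      rw [h0, pow_zero, card_eq_one] at hr
      exact c.nonab ⟨⟨fun a b => commutatorElement_eq_one_iff_mul_comm.mp (by
        have := hcomm a b
        rwa [hr, mem_bot] at this)⟩⟩
    have hr2 : r ≤ 2 := (Nat.pow_le_pow_iff_right (le_refl 2)).mp (hr ▸ hK4 : 2 ^ r ≤ 2 ^ 2)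
    rcases (show r = 1 ∨ r = 2 by omega) with rfl | rfl
    · have hes : Cfsg.IsExtraspecial 2 X := by
        refine ⟨⟨c.isPGroup, ?_, hKX'.trans hZK.symm⟩, by rw [hZK, hr, pow_one]⟩
        rw [hZK]
        refine le_antisymm (H24.frattini_le_of K hX'K hsq) ?_
        rw [← hKX']
        exact H24.commutator_le_frattini c.isPGroup
      exact (c.of_extraspecial hes (fun φ hφ z hz => hfixK φ hφ z (hZK ▸ hz))).imp id Or.inr
    · exact Or.inr (Or.inl (c.of_fixed_four (by rw [hr]; norm_num) hfixK hK2 hsq hKX' hZK))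
  · -- `A` moves `K`
    let E : Subgroup X :=
      { carrier := {k | k ∈ K ∧ k ^ 2 = 1}
        one_mem' := ⟨one_mem K, one_pow 2⟩
        mul_mem' := fun {a b} ha hb =>
          ⟨mul_mem ha.1 hb.1, by rw [(hKc a ha.1 b hb.1).mul_pow, ha.2, hb.2, one_mul]⟩
        inv_mem' := fun {a} ha => ⟨inv_mem ha.1, by rw [inv_pow, ha.2, inv_one]⟩ }
    have hEK : E ≤ K := fun k hk => hk.1
    have hEe : ∀ e ∈ E, e ^ 2 = 1 := fun e he => he.2
    have hom : ∀ k ∈ K, k ^ 2 = 1 → k ∈ E := fun k hk h2 => ⟨hk, h2⟩
    have hEi : Inv A E := fun φ hφ e he =>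
      ⟨hKi φ hφ e he.1, by rw [← map_pow, he.2, map_one]⟩
    haveI hEn : E.Normal := ⟨fun e he g =>
      ⟨hKn.conj_mem e he.1 g, by rw [conj_pow, he.2, mul_one, mul_inv_cancel]⟩⟩
    have hEel : Cfsg.IsElementaryAbelian 2 E :=
      ⟨⟨⟨fun a b => Subtype.ext (hKc _ a.2.1 _ b.2.1).eq⟩⟩, hEe⟩
    push Not at hfixK
    obtain ⟨β, hβ, k, hk, hβk⟩ := hfixK
    obtain ⟨a, ha, hβa⟩ : ∃ e ∈ E, β e ≠ e := by
      by_contra hno
      push Not at hno
      exact hβk (c.fix_of_fix_omega hKc hKi hom hβ hno k hk)
    have ha1 : a ≠ 1 := fun e => hβa (by rw [e, map_one])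
    have hb : β a ∈ E := hEi β hβ a ha
    have hb1 : β a ≠ 1 := by simpa using ha1
    have hE4 : Nat.card E = 4 := by
      obtain ⟨r, hr⟩ := H24.exists_card_pow c.isPGroup E
      have h4 := c.card_le_four hEel
      have hsub : ({1, a, β a} : Finset X).card ≤ Nat.card E := by
        have := Fintype.ofFinite E
        rw [Nat.card_eq_fintype_card, Fintype.card_subtype]
        refine Finset.card_le_card fun y hy => ?_
        simp only [Finset.mem_insert, Finset.mem_singleton] at hy
        rcases hy with rfl | rfl | rfl <;> simp [ha, hb]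
      rw [Finset.card_eq_three.mpr ⟨1, a, β a, ha1.symm, hb1.symm, Ne.symm hβa, rfl⟩, hr] at hsub
      rw [hr] at h4 ⊢
      have hr2 : r ≤ 2 := (Nat.pow_le_pow_iff_right (le_refl 2)).mp (h4 : 2 ^ r ≤ 2 ^ 2)
      interval_cases r <;> omega
    -- `β` permutes `E # ` cyclically
    have hfc := fun y hy => four_cases hE4 ha hb ha1 hb1 (Ne.symm hβa) hEe (y := y) hy
    have hbb : β (β a) = a * β a := by
      rcases hfc _ (hEi β hβ _ hb) with e | e | e | e
      · exact absurd (β.injective (e.trans (map_one β).symm)) hb1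
      · exact absurd (c.fix_of_sq_fix hβ e) hβa
      · exact absurd (β.injective e) hβa
      · exact e
    have hbab : β (a * β a) = a := by
      rw [map_mul, hbb, ← mul_assoc]
      have hcab : Commute a (β a) := hKc a ha.1 _ hb.1
      rw [← hcab.eq, mul_assoc, ← pow_two, hEe _ hb, mul_one]
    have hab1 : a * β a ≠ 1 := fun e => by
      rw [e] at hbb
      exact hb1 (β.injective (hbb.trans (map_one β).symm))
    have hmoves : ∀ e ∈ E, β e = e → e = 1 := by
      intro e he h1
      rcases hfc e he with rfl | rfl | rfl | rfl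
      · rfl
      · exact absurd h1 hβa
      · exact absurd (β.injective h1) hβa
      · rw [hbab] at h1; exact absurd (left_eq_mul.mp h1) hb1
    have hβ3 : ∀ e ∈ E, β (β (β e)) = e := by
      intro e he
      rcases hfc e he with rfl | rfl | rfl | rfl
      · simp
      · rw [hbb, hbab]
      · rw [hbb, hbab]
      · rw [hbab, hbb]
    -- `E` is central
    have hEZ : E ≤ center X := by
      by_contra hne
      obtain ⟨e, he, hez, he1⟩ : ∃ e ∈ E, e ∈ center X ∧ e ≠ 1 := by
        have h1 := H24.inf_center_ne_bot c.isPGroup (N := E) fun h0 => by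
          rw [h0, card_bot] at hE4; omega
        obtain ⟨e, he, he1⟩ := (bot_or_exists_ne_one _).resolve_left h1
        exact ⟨e, he.1, he.2, he1⟩
      refine hne fun y hy => ?_
      have h2 : β e ∈ center X := inv_center A β hβ e hez
      rcases four_cases hE4 he (hEi β hβ e he) he1 (by simpa using he1)
        (fun hh => he1 (hmoves e he hh.symm)) hEe hy with rfl | rfl | rfl | rfl
      · exact one_mem _
      · exact hez
      · exact h2
      · exact mul_mem hez h2
    -- a 3-element with the same properties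
    obtain ⟨i, m, hm, hord⟩ := Nat.exists_eq_pow_mul_and_not_dvd (orderOf_pos β).ne' 3 (by norm_num)
    set α := β ^ m with hαdef
    have hα : α ∈ A := pow_mem hβ m
    have hβpow : ∀ j : ℕ, ∀ e ∈ E, (β ^ (3 * j)) e = e := by
      intro j
      induction j with
      | zero => simp
      | succ j ih =>
        intro e he
        rw [mul_add, mul_one, pow_add, MulAut.mul_apply,
          show (β ^ 3) e = β (β (β e)) by rfl, hβ3 e he, ih e he]
    have hαE : ∀ e ∈ E, α e = (β ^ (m % 3)) e := by
      intro e he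
      conv_lhs => rw [hαdef, ← Nat.mod_add_div m 3, pow_add, MulAut.mul_apply, hβpow _ e he]
    have tri : Tri α E := by
      refine ⟨fun e he => hEi α hα e he, hE4, hEe, fun e he h1 => ?_, fun e he => ?_⟩
      · rw [hαE e he] at h1
        have hm3 : m % 3 = 1 ∨ m % 3 = 2 := by
          have : m % 3 ≠ 0 := fun h0 => hm (Nat.dvd_of_mod_eq_zero h0)
          omega
        rcases hm3 with hh | hh <;> rw [hh] at h1
        · rw [pow_one] at h1; exact hmoves e he h1
        · exact hmoves e he (c.fix_of_sq_fix hβ (show β (β e) = e from h1))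
      · have : α * α * α = β ^ (3 * m) := by rw [hαdef, ← pow_add, ← pow_add]; congr 1; omega
        have h1 := hβpow m e he
        rw [← this] at h1
        exact h1
    have hα3 : IsPGroup 3 (zpowers α) := by
      have hdvd : orderOf α ∣ 3 ^ i := orderOf_dvd_of_pow_eq_one (by
        rw [hαdef, ← pow_mul, mul_comm m, ← hord, pow_orderOf_eq_one])
      obtain ⟨j, -, hj⟩ := (Nat.dvd_prime_pow Nat.prime_three).mp hdvd
      exact IsPGroup.of_card (n := j) (by rw [Nat.card_zpowers, hj])
    -- `A` acts on `K` through powers of `α`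
    have hfixa : ∀ δ ∈ A, δ a = a → ∀ e ∈ E, δ e = e := by
      intro δ hδ h1 e he
      rcases tri.cases ha ha1 he with rfl | rfl | rfl | rfl
      · exact map_one δ
      · exact h1
      · rcases tri.cases ha ha1 (hEi δ hδ _ he) with e1 | e1 | e1 | e1
        · exact absurd (δ.injective (e1.trans (map_one δ).symm)) (by simpa using ha1)
        · exact absurd (δ.injective (e1.trans h1.symm)) (tri.apply_ne ha ha1)
        · exact e1
        · refine c.fix_of_sq_fix hδ ?_
          rw [e1, ← tri.mul_apply ha, map_mul, h1, e1, ← tri.mul_apply ha, ← mul_assoc,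
            ← pow_two, hEe a ha, one_mul]
      · rw [← tri.mul_apply ha, map_mul, h1]
        congr 1
        rcases tri.cases ha ha1 (hEi δ hδ _ (tri.mem a ha)) with e1 | e1 | e1 | e1
        · exact absurd (δ.injective (e1.trans (map_one δ).symm)) (by simpa using ha1)
        · exact absurd (δ.injective (e1.trans h1.symm)) (tri.apply_ne ha ha1)
        · exact e1
        · refine c.fix_of_sq_fix hδ ?_
          rw [e1, ← tri.mul_apply ha, map_mul, h1, e1, ← tri.mul_apply ha, ← mul_assoc,
            ← pow_two, hEe a ha, one_mul]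
    have honK : ∀ φ ∈ A, (∀ k ∈ K, φ k = k) ∨ (∀ k ∈ K, φ k = α k) ∨
        (∀ k ∈ K, φ k = α (α k)) := by
      intro φ hφ
      have htr : ∀ ψ ∈ A, φ a = ψ a → ∀ k ∈ K, φ k = ψ k := by
        intro ψ hψ h1 k hk
        have hδ : ψ⁻¹ * φ ∈ A := mul_mem (inv_mem hψ) hφ
        have h2 := c.fix_of_fix_omega hKc hKi hom hδ
          (hfixa _ hδ (by rw [MulAut.mul_apply, h1]; simp)) k hk
        rw [MulAut.mul_apply] at h2
        simpa using congrArg ψ h2
      rcases tri.cases ha ha1 (hEi φ hφ a ha) with e | e | e | e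
      · exact absurd (φ.injective (e.trans (map_one φ).symm)) ha1
      · exact Or.inl (fun k hk => htr 1 (one_mem A) e k hk)
      · exact Or.inr (Or.inl (htr α hα e))
      · exact Or.inr (Or.inr (htr (α * α) (mul_mem hα hα) e))
    have hcube : ∀ k ∈ K, α (α (α k)) = k :=
      c.fix_of_fix_omega hKc hKi hom (φ := α * α * α) (mul_mem (mul_mem hα hα) hα) tri.cube
    have hsqE : ∀ x : X, x ^ 2 ∈ E := by
      by_cases h1 : ∀ k ∈ K, k ^ 2 = 1
      · have hKE : K = E := le_antisymm (fun k hk => hom k hk (h1 k hk)) hEK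
        exact fun x => hEK.antisymm hKE.le ▸ c.sq_mem_of_maximal_central (hKE.le.trans hEZ) hKi hmax x
      · have hexN : ∃ j : ℕ, ∀ k ∈ K, k ^ 2 ^ j = 1 := by
          obtain ⟨N, hN⟩ := IsPGroup.iff_card.mp c.isPGroup
          exact ⟨N, fun k _ => by rw [← hN, pow_card_eq_one']⟩
        have hspec := Nat.find_spec hexN
        have hj2 : 2 ≤ Nat.find hexN := by
          by_contra hlt
          refine h1 fun k hk => ?_
          have := hspec k hk
          rcases (show Nat.find hexN = 0 ∨ Nat.find hexN = 1 by omega) with e | e <;> rw [e] at this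
          · rw [pow_zero, pow_one] at this; simp [this]
          · simpa using this
        set t := Nat.find hexN - 1 with ht
        have hfind : Nat.find hexN = t + 1 := by omega
        have hexpo : ∀ k ∈ K, k ^ 2 ^ (t + 1) = 1 := fun k hk => hfind ▸ hspec k hk
        have hpiE : ∀ k ∈ K, k ^ 2 ^ t ∈ E := fun k hk => hom _ (pow_mem hk _) (by
          rw [← pow_mul, ← pow_succ]; exact hexpo k hk)
        obtain ⟨k₀, hk₀, hk₀'⟩ : ∃ k ∈ K, k ^ 2 ^ t ≠ 1 := by
          have h2 := Nat.find_min hexN (show t < Nat.find hexN by omega)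
          push Not at h2
          exact h2
        have hsurj : ∀ e ∈ E, ∃ k ∈ K, k ^ 2 ^ t = e := by
          intro e he
          rcases tri.cases (hpiE k₀ hk₀) hk₀' he with rfl | rfl | rfl | rfl
          · exact ⟨1, one_mem K, one_pow _⟩
          · exact ⟨k₀, hk₀, rfl⟩
          · exact ⟨α k₀, hKi α hα _ hk₀, (map_pow α _ _).symm⟩
          · exact ⟨α (α k₀), hKi α hα _ (hKi α hα _ hk₀), by rw [← map_pow, ← map_pow]⟩
        have hker : ∀ k ∈ K, k ^ 2 ^ t = 1 → ∃ m ∈ K, k = m ^ 2 := by
          let σ : K →* X :=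
            { toFun := fun k => (k : X) ^ 2
              map_one' := by simp
              map_mul' := fun a b => (hKc _ a.2 _ b.2).mul_pow 2 }
          let π : K →* X :=
            { toFun := fun k => (k : X) ^ 2 ^ t
              map_one' := by simp
              map_mul' := fun a b => (hKc _ a.2 _ b.2).mul_pow _ }
          have hπr : π.range = E := le_antisymm (by rintro _ ⟨k, rfl⟩; exact hpiE k k.2)
            fun e he => by
              obtain ⟨k, hk, hk'⟩ := hsurj e he
              exact ⟨⟨k, hk⟩, hk'⟩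
          have hle : σ.range ≤ π.ker.map K.subtype := by
            rintro _ ⟨k, rfl⟩
            refine ⟨⟨(k : X) ^ 2, pow_mem k.2 2⟩, ?_, rfl⟩
            show ((k : X) ^ 2) ^ 2 ^ t = 1
            rw [← pow_mul, ← pow_succ']
            exact hexpo k k.2
          have heq : σ.range = π.ker.map K.subtype := by
            refine eq_of_le_of_card_ge hle ?_
            rw [card_map_of_injective K.subtype_injective]
            have hs := card_mul_index σ.ker
            have hp := card_mul_index π.ker
            rw [index_ker] at hs hp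
            rw [hπr, hE4] at hp
            have hsk : Nat.card σ.ker ≤ 4 := by
              rw [← hE4]
              exact Nat.card_le_card_of_injective
                (fun k => (⟨((k : K) : X), ⟨(k : K).2, k.2⟩⟩ : E))
                fun a b hab => Subtype.ext (Subtype.ext (congrArg Subtype.val hab :))
            have := Nat.mul_le_mul_right (Nat.card σ.range) hsk
            omega
          intro k hk hk'
          obtain ⟨m', hm'⟩ : k ∈ σ.range := heq ▸ ⟨⟨k, hk⟩, hk', rfl⟩
          exact ⟨m', m'.2, hm'.symm⟩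
        exact (LCtx.mk c hα tri hEZ hEK hKn hKi hKc hom hcube honK (by omega) hexpo hsurj
          hker).sq_mem hmax
    have hinv : ∀ y : X, y ^ 2 = 1 → y ∈ E := fun y hy =>
      c.involution_mem hEZ hE4 hEe hy fun g => comm_mem_of_sq hsqE y g
    -- orders of invariant subgroups are `1` modulo `3`
    have hmod : ∀ N : Subgroup X, Inv A N → Nat.card N % 3 = 1 := by
      intro N hN
      haveI : Fact (Nat.Prime 3) := ⟨Nat.prime_three⟩
      have hmem : ∀ g : zpowers α, (g : MulAut X) ∈ A := fun g => zpowers_le.mpr hα g.2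
      letI : MulAction (zpowers α) N :=
        { smul := fun g x => ⟨(g : MulAut X) x, hN _ (hmem g) x x.2⟩
          one_smul := fun x => Subtype.ext rfl
          mul_smul := fun g g' x => Subtype.ext rfl }
      have h := hα3.card_modEq_card_fixedPoints N
      have hfix : MulAction.fixedPoints (zpowers α) N = {1} := by
        ext x
        simp only [MulAction.mem_fixedPoints, Set.mem_singleton_iff]
        constructor
        · intro hx
          have h1 : α (x : X) = x := congrArg Subtype.val (hx ⟨α, mem_zpowers α⟩)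
          have h2 : (x : X) ^ 2 = 1 := tri.moves _ (hsqE x) (by rw [map_pow, h1])
          exact Subtype.ext (tri.moves _ (hinv _ h2) h1)
        · rintro rfl g
          exact Subtype.ext (map_one (g : MulAut X))
      rw [hfix, Nat.card_coe_set_eq, Set.ncard_singleton] at h
      exact h
    have hX'E : commutator X ≤ E := by
      rw [_root_.commutator_def, commutator_le]; exact fun u _ v _ => comm_mem_of_sq hsqE u v
    have hX' : commutator X = E := by
      refine eq_of_le_of_card_ge hX'E ?_
      obtain ⟨r, hr⟩ := H24.exists_card_pow c.isPGroup (commutator X)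
      have h1 := hmod _ (inv_commutator A)
      have h4 := card_le_of_le hX'E
      rw [hr] at h1 h4 ⊢
      rw [hE4] at h4 ⊢
      have hr2 : r ≤ 2 := (Nat.pow_le_pow_iff_right (le_refl 2)).mp (h4 : 2 ^ r ≤ 2 ^ 2)
      interval_cases r
      · exfalso
        rw [pow_zero, card_eq_one] at hr
        exact c.nonab ⟨⟨fun u v => commutatorElement_eq_one_iff_mul_comm.mp (by
          have := commutator_mem_commutator (mem_top u) (mem_top v)
          rw [← _root_.commutator_def, hr, mem_bot] at this
          exact this)⟩⟩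
      · norm_num at h1
      · norm_num
    have h32 : Nat.card X ≠ 32 := fun h32 => by
      have := hmod ⊤ fun φ _ x _ => mem_top _
      rw [card_top, h32] at this
      norm_num at this
    have h64 := card_eq_sixtyfour hE4 hEe hEZ hsqE c.isPGroup hinv hX' h32
    have hZ : center X = E := by
      refine (eq_of_le_of_card_ge hEZ ?_).symm
      obtain ⟨r, hr⟩ := H24.exists_card_pow c.isPGroup (center X)
      have h1 := hmod _ (inv_center A)
      have h6 := card_le_of_le (le_top : center X ≤ ⊤)
      have h4 := card_le_of_le hEZ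
      rw [card_top, h64] at h6
      rw [hr] at h1 h6 h4 ⊢
      rw [hE4] at h4 ⊢
      have hr2 : 2 ≤ r := (Nat.pow_le_pow_iff_right (le_refl 2)).mp (h4 : 2 ^ 2 ≤ 2 ^ r)
      have hr6 : r ≤ 6 := (Nat.pow_le_pow_iff_right (le_refl 2)).mp (h6 : 2 ^ r ≤ 2 ^ 6)
      interval_cases r
      · norm_num
      · norm_num at h1
      · exact absurd (by rw [hr]; norm_num) (card_center_ne_sixteen hE4 hEe hEZ hsqE c.isPGroup hinv h64)
      · norm_num at h1
      · exfalso
        have htop : center X = ⊤ := eq_top_of_card_eq _ (by rw [hr, h64]; norm_num)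
        exact c.nonab ⟨⟨fun u v => mem_center_iff.mp (htop ▸ mem_top v) u⟩⟩
    exact Or.inr (Or.inl (c.special_of_four hEZ hE4 hEe hsqE hinv hX' hZ h64))

end Ctx

end Cfsg.Agent.H53.OddAct
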