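import Cfsg.Agent.H50.AltEight.Classify
import Cfsg.Agent.H91.OddOnTwo.AutCard
import Cfsg.Agent.H89.AutOrder

/-!
# Automorphisms of an elementary group of order eight, and odd groups of automorphisms
-/

set_option autoImplicit false
set_option linter.style.haveILetI false
set_option linter.unusedSectionVars false
open Subgroup

namespace Cfsg.Agent.H53.Rudvalis

/-- Automorphisms of the additive group of a space on which all additive maps are linear. -/
theorem nonempty_mulEquiv_GL_aux {D : Type*} [CommGroup D] {K : Type*} [Field K]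
    [Module K (Additive D)] {n : ℕ} (bas : Module.Basis (Fin n) K (Additive D))
    (hsmul : ∀ (f : Additive D →+ Additive D) (c : K) (x : Additive D), f (c • x) = c • f x) :
    Nonempty (MulAut D ≃* GL (Fin n) K) := by
  let toLin : MulAut D →* Module.End K (Additive D) :=
    { toFun := fun φ =>
        { toFun := fun x => Additive.ofMul (φ x.toMul)
          map_add' := fun x y => congrArg Additive.ofMul (map_mul φ x.toMul y.toMul)
          map_smul' := fun c x => hsmul (MonoidHom.toAdditive φ.toMonoidHom) c x }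
      map_one' := LinearMap.ext fun _ => rfl
      map_mul' := fun _ _ => LinearMap.ext fun _ => rfl }
  let f : MulAut D →* GL (Fin n) K :=
    ((LinearMap.toMatrixAlgEquiv bas).toRingEquiv.toMonoidHom.comp toLin).toHomUnits
  have hf : Function.Bijective f := by
    refine ⟨fun φ ψ h => ?_, fun u => ?_⟩
    · have h2 : toLin φ = toLin ψ :=
        (LinearMap.toMatrixAlgEquiv bas).injective (congrArg Units.val h)
      exact MulEquiv.ext fun v => congrArg Additive.toMul (LinearMap.congr_fun h2 (Additive.ofMul v))
    · let L : Module.End K (Additive D) := (LinearMap.toMatrixAlgEquiv bas).symm u.1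
      let L' : Module.End K (Additive D) := (LinearMap.toMatrixAlgEquiv bas).symm (u⁻¹).1
      have h1 : L * L' = 1 := by rw [← map_mul, Units.mul_inv, map_one]
      have h2 : L' * L = 1 := by rw [← map_mul, Units.inv_mul, map_one]
      let φ : MulAut D :=
        { toFun := fun d => (L (Additive.ofMul d)).toMul
          invFun := fun d => (L' (Additive.ofMul d)).toMul
          left_inv := fun d => congrArg Additive.toMul (LinearMap.congr_fun h2 (Additive.ofMul d))
          right_inv := fun d => congrArg Additive.toMul (LinearMap.congr_fun h1 (Additive.ofMul d))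
          map_mul' := fun a b => congrArg Additive.toMul (map_add L (Additive.ofMul a) (Additive.ofMul b)) }
      refine ⟨φ, Units.ext ?_⟩
      show LinearMap.toMatrixAlgEquiv bas (toLin φ) = u.1
      rw [show toLin φ = L from LinearMap.ext fun _ => rfl]
      exact (LinearMap.toMatrixAlgEquiv bas).apply_symm_apply _
  exact ⟨MulEquiv.ofBijective f hf⟩

/-- Automorphisms of an elementary abelian `p`-group as matrices. -/
theorem nonempty_mulEquiv_GL {D : Type*} [CommGroup D] [Finite D] {p n : ℕ} [Fact p.Prime]
    (hp : ∀ v : D, v ^ p = 1) (hn : Nat.card D = p ^ n) :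
    Nonempty (MulAut D ≃* GL (Fin n) (ZMod p)) := by
  letI : Module (ZMod p) (Additive D) := AddCommGroup.zmodModule fun v => by
    obtain ⟨v, rfl⟩ := Additive.ofMul.surjective v
    rw [← ofMul_pow, hp, ofMul_one]
  haveI : Module.Finite (ZMod p) (Additive D) := Module.Finite.of_finite
  haveI : Module.Free (ZMod p) (Additive D) :=
    Module.Free.of_divisionRing (ZMod p) (Additive D)
  have h : Nat.card (Additive D) = Nat.card (ZMod p) ^ Module.finrank (ZMod p) (Additive D) :=
    @Module.natCard_eq_pow_finrank (ZMod p) (Additive D) _ _ _ ‹Module.Finite (ZMod p) (Additive D)›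
  rw [Nat.card_congr Additive.toMul, hn, Nat.card_zmod] at h
  exact nonempty_mulEquiv_GL_aux
    (@Module.finBasisOfFinrankEq (ZMod p) (Additive D) _ _ _ ‹Module.Free (ZMod p) (Additive D)› _
      ‹Module.Finite (ZMod p) (Additive D)› n
      (Nat.pow_right_injective (Fact.out : p.Prime).two_le h).symm)
    fun f c x => ZMod.map_smul f c x

/-- A group without subgroups of index two has only even permutations. -/
theorem sign_eq_one {H : Type*} [Group H] (hH : ∀ K : Subgroup H, K.index ≠ 2) {α : Type*}
    [Fintype α] [DecidableEq α] (f : H →* Equiv.Perm α) (g : H) : Equiv.Perm.sign (f g) = 1 := by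
  by_contra hne
  let χ := Equiv.Perm.sign.comp f
  refine hH χ.ker ?_
  rw [index_ker]
  haveI : Fact (Nat.card ℤˣ).Prime := ⟨by
    rw [Nat.card_eq_fintype_card, Fintype.card_units_int]; exact Nat.prime_two⟩
  rcases χ.range.eq_bot_or_eq_top_of_prime_card with hr | hr
  · exact absurd (mem_bot.mp (hr ▸ (⟨g, rfl⟩ : χ g ∈ χ.range))) hne
  · rw [hr, card_top, Nat.card_eq_fintype_card, Fintype.card_units_int]

/-- A group without subgroups of index two acting on an elementary group of order eight and
inducing the two generators of a flag stabiliser, and containing eight automorphisms fixing the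
first point, induces all automorphisms. -/
theorem surjective_of_flag {D : Type*} [CommGroup D] [Finite D] (hD2 : ∀ d : D, d * d = 1)
    (hD : Nat.card D = 8) {a b c : D} (A : Subgroup D) (hA : ∀ d, d ∈ A ↔ d = 1 ∨ d = a)
    (B : Subgroup D) (hB : ∀ d, d ∈ B ↔ d = 1 ∨ d = a ∨ d = b ∨ d = a * b)
    (ha : a ≠ 1) (hb : b ∉ A) (hc : c ∉ B)
    {H : Type*} [Group H] [Finite H] (hH : ∀ K : Subgroup H, K.index ≠ 2) (ψ : H →* MulAut D)
    {s₁ s₂ : H} (h1a : ψ s₁ a = a) (h1b : ψ s₁ b = a * b) (h1c : ψ s₁ c = c)
    (h2a : ψ s₂ a = a) (h2b : ψ s₂ b = b) (h2c : ψ s₂ c = b * c)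
    (P : Subgroup H) (hP : Nat.card (P.map ψ) = 8) (hPa : ∀ x ∈ P, ψ x a = a) :
    Function.Surjective ψ ∧ Nat.card (MulAut D) = 168 := by
  classical
  haveI : Fact (Nat.Prime 2) := ⟨Nat.prime_two⟩
  obtain ⟨e⟩ := nonempty_mulEquiv_GL (D := D) (p := 2) (n := 3) (fun v => by rw [sq, hD2]) (by rw [hD]; rfl)
  have hcard : Nat.card (MulAut D) = 168 := by
    rw [Nat.card_congr e.toEquiv, H50.AltEight.gl_three_two.2]
  haveI : IsSimpleGroup (MulAut D) := by
    haveI := H50.AltEight.gl_three_two.1
    haveI := e.toEquiv.nontrivial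
    exact IsSimpleGroup.isSimpleGroup_of_surjective e.symm.toMonoidHom e.symm.surjective
  refine ⟨?_, hcard⟩
  haveI := Fintype.ofFinite D
  have hDc : Fintype.card D = 8 := by rw [← Nat.card_eq_fintype_card, hD]
  have hinv : ∀ d : D, d⁻¹ = d := fun d => inv_eq_of_mul_eq_one_right (hD2 d)
  have hab : a * b ≠ a ∧ a * b ≠ b ∧ a * b ≠ 1 ∧ b ≠ a ∧ b ≠ 1 := by
    refine ⟨fun h => hb ((hA b).mpr (Or.inl (mul_eq_left.mp h))), fun h => ha (mul_eq_right.mp h),
      fun h => hb ((hA b).mpr (Or.inr ?_)), fun h => hb ((hA b).mpr (Or.inr h)),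
      fun h => hb ((hA b).mpr (Or.inl h))⟩
    rw [eq_inv_of_mul_eq_one_right h, hinv]
  -- the first point is moved
  have hA' : ∃ g, ψ g a ≠ a := by
    by_contra hno
    push Not at hno
    have hAinv : ∀ g : H, ∀ d, d ∈ A ↔ ψ g d ∈ A := fun g d => by
      rw [hA, hA]
      constructor
      · rintro (rfl | rfl)
        · exact Or.inl (map_one _)
        · exact Or.inr (hno g)
      · rintro (h | h)
        · exact Or.inl ((ψ g).injective (h.trans (map_one _).symm))
        · exact Or.inr ((ψ g).injective (h.trans (hno g).symm))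
    let f : H →* Equiv.Perm (D ⧸ A) :=
      { toFun := fun g => Equiv.ofBijective
          (fun q => Quotient.liftOn' q (fun d => (QuotientGroup.mk (ψ g d) : D ⧸ A)) fun x y hxy => by
            rw [QuotientGroup.leftRel_apply] at hxy
            refine QuotientGroup.eq.mpr ?_
            rw [← map_inv, ← map_mul]
            exact (hAinv g _).mp hxy)
          (Finite.surjective_iff_bijective.mp fun q => by
            obtain ⟨d, rfl⟩ := QuotientGroup.mk_surjective q
            exact ⟨QuotientGroup.mk ((ψ g).symm d), congrArg QuotientGroup.mk ((ψ g).apply_symm_apply d)⟩)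
        map_one' := Equiv.ext fun q => by
          obtain ⟨d, rfl⟩ := QuotientGroup.mk_surjective q
          show QuotientGroup.mk (ψ 1 d) = _
          rw [map_one]; rfl
        map_mul' := fun g g' => Equiv.ext fun q => by
          obtain ⟨d, rfl⟩ := QuotientGroup.mk_surjective q
          show QuotientGroup.mk (ψ (g * g') d) = QuotientGroup.mk (ψ g (ψ g' d))
          rw [map_mul]; rfl }
    haveI := Fintype.ofFinite (D ⧸ A)
    have hf : ∀ g d, f g (QuotientGroup.mk d) = QuotientGroup.mk (ψ g d) := fun g d => rfl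
    have hne : (QuotientGroup.mk c : D ⧸ A) ≠ QuotientGroup.mk (b * c) := by
      intro h
      rw [QuotientGroup.eq, mul_left_comm, inv_mul_cancel, mul_one] at h
      exact hb h
    have hsw : f s₂ = Equiv.swap (QuotientGroup.mk c) (QuotientGroup.mk (b * c)) := by
      refine Equiv.ext fun q => ?_
      obtain ⟨d, rfl⟩ := QuotientGroup.mk_surjective q
      rw [hf, Equiv.swap_apply_def]
      have hcase : d ∈ B ∨ d⁻¹ * c ∈ B := by
        by_contra hno'
        push Not at hno'
        -- four cosets would not fit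
        have hBc : Nat.card B = 4 := by
          rw [Nat.card_eq_fintype_card]
          have : (Finset.univ.filter fun d => d ∈ B) = {1, a, b, a * b} := by
            ext x; simp [hB]
          rw [Fintype.card_subtype, this, Finset.card_insert_of_notMem, Finset.card_insert_of_notMem,
            Finset.card_pair hab.2.1.symm]
          · simp [hab.2.2.2.1.symm, hab.1.symm]
          · simp [ha.symm, hab.2.2.1.symm, hab.2.2.2.2.symm]
        have hidx : B.index = 2 := by
          have := B.card_mul_index
          rw [hBc, hD] at this; omega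
        exact hno'.2 ((mul_mem_iff_of_index_two hidx).mpr
          (iff_of_false (fun h => hno'.1 (inv_mem_iff.mp h)) hc))
      have hBfix : ∀ x ∈ B, ψ s₂ x = x := by
        intro x hx
        rcases (hB x).mp hx with rfl | rfl | rfl | rfl
        · exact map_one _
        · exact h2a
        · exact h2b
        · rw [map_mul, h2a, h2b]
      rcases hcase with hd | hd
      · have hAB : A ≤ B := fun y hy => by
          rcases (hA y).mp hy with rfl | rfl
          · exact one_mem B
          · exact (hB _).mpr (Or.inr (Or.inl rfl))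
        have n1 : ¬ (QuotientGroup.mk d : D ⧸ A) = QuotientGroup.mk c := fun h =>
          hc (by simpa using mul_mem hd (hAB (QuotientGroup.eq.mp h)))
        have n2 : ¬ (QuotientGroup.mk d : D ⧸ A) = QuotientGroup.mk (b * c) := fun h => by
          have hbB : b ∈ B := (hB b).mpr (Or.inr (Or.inr (Or.inl rfl)))
          exact hc (by simpa using mul_mem (inv_mem hbB) (mul_mem hd (hAB (QuotientGroup.eq.mp h))))
        rw [if_neg n1, if_neg n2, hBfix d hd]
      · have e0 : d = (d⁻¹ * c)⁻¹ * c⁻¹⁻¹ := by
          rw [inv_inv, mul_inv_rev, inv_inv, mul_right_comm, inv_mul_cancel, one_mul]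
        have e1 : ψ s₂ d = b * d := by
          rw [e0, map_mul, hBfix _ (inv_mem hd), inv_inv, h2c]; ac_rfl
        rcases (hB _).mp hd with h0 | h0 | h0 | h0
        all_goals
          have ed : c = d * _ := (mul_inv_cancel_left d c).symm.trans (congrArg (d * ·) h0)
        all_goals rw [e1, ed]
        · simp
        · have : (QuotientGroup.mk d : D ⧸ A) = QuotientGroup.mk (d * a) :=
            QuotientGroup.eq.mpr (by rw [inv_mul_cancel_left]; exact (hA a).mpr (Or.inr rfl))
          rw [if_pos this, QuotientGroup.eq]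
          exact (hA _).mpr (Or.inr (by simp [mul_assoc, mul_left_comm, hinv]; simp only [← mul_assoc, hD2, one_mul]))
        · have n1 : ¬ (QuotientGroup.mk d : D ⧸ A) = QuotientGroup.mk (d * b) := fun h =>
            hb (by simpa using QuotientGroup.eq.mp h)
          have e2 : b * (d * b) = d := by rw [mul_comm, mul_assoc, hD2, mul_one]
          rw [e2, if_neg n1, if_pos rfl, mul_comm d b]
        · have n1 : ¬ (QuotientGroup.mk d : D ⧸ A) = QuotientGroup.mk (d * (a * b)) := fun h => by
            have := QuotientGroup.eq.mp h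
            rw [inv_mul_cancel_left] at this
            exact hb (by simpa using mul_mem (inv_mem ((hA a).mpr (Or.inr rfl))) this)
          have e2 : b * (d * (a * b)) = d * a := by
            rw [show b * (d * (a * b)) = d * a * (b * b) by ac_rfl, hD2, mul_one]
          have m2 : (QuotientGroup.mk d : D ⧸ A) = QuotientGroup.mk (b * (d * (a * b))) := by
            rw [e2, QuotientGroup.eq, inv_mul_cancel_left]; exact (hA a).mpr (Or.inr rfl)
          rw [if_neg n1, if_pos m2, QuotientGroup.eq]
          rw [show (b * d)⁻¹ * (d * (a * b)) = a * (b * b * (d * d)) by rw [hinv]; ac_rfl, hD2, hD2]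
          exact (hA _).mpr (Or.inr (by rw [one_mul, mul_one]))
    have := sign_eq_one hH f s₂
    rw [hsw, Equiv.Perm.sign_swap hne] at this
    exact absurd this (by decide)
  -- the plane is moved
  have hB' : ∃ g, ∃ x ∈ B, ψ g x ∉ B := by
    by_contra hno
    push Not at hno
    have hBinv : ∀ g x, x ∈ B ↔ ψ g x ∈ B := fun g x => ⟨hno g x, fun hx => by
      have h1 := hno g⁻¹ _ hx
      rw [← MulAut.mul_apply, ← map_mul, inv_mul_cancel, map_one] at h1
      exact h1⟩
    let f : H →* Equiv.Perm B :=
      { toFun := fun g => (ψ g).toEquiv.subtypeEquiv (hBinv g)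
        map_one' := Equiv.ext fun x => Subtype.ext (by
          show ψ 1 (x : D) = x
          rw [map_one]; rfl)
        map_mul' := fun g g' => Equiv.ext fun x => Subtype.ext (by
          show ψ (g * g') (x : D) = ψ g (ψ g' x)
          rw [map_mul]; rfl) }
    haveI := Fintype.ofFinite B
    have hbB : b ∈ B := (hB b).mpr (Or.inr (Or.inr (Or.inl rfl)))
    have habB : a * b ∈ B := (hB _).mpr (Or.inr (Or.inr (Or.inr rfl)))
    have hsw : f s₁ = Equiv.swap ⟨b, hbB⟩ ⟨a * b, habB⟩ := by
      refine Equiv.ext fun x => Subtype.ext ?_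
      show ψ s₁ (x : D) = _
      rw [Equiv.swap_apply_def]
      rcases (hB x).mp x.2 with h | h | h | h
      · rw [if_neg (fun e => hab.2.2.2.2 ((congrArg Subtype.val e).symm.trans h)),
          if_neg (fun e => hab.2.2.1 ((congrArg Subtype.val e).symm.trans h)), h, map_one]
      · rw [if_neg (fun e => hab.2.2.2.1 ((congrArg Subtype.val e).symm.trans h)),
          if_neg (fun e => hab.1 ((congrArg Subtype.val e).symm.trans h)), h, h1a]
      · rw [if_pos (Subtype.ext h), h, h1b]
      · rw [if_neg (fun e => hab.2.1 (h.symm.trans (congrArg Subtype.val e))), if_pos (Subtype.ext h), h,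
          map_mul, h1a, h1b, ← mul_assoc, hD2, one_mul]
    have := sign_eq_one hH f s₁
    rw [hsw, Equiv.Perm.sign_swap (fun e => hab.2.1 (congrArg Subtype.val e).symm)] at this
    exact absurd this (by decide)
  -- so the range is transitive on the seven nonidentity elements
  letI : MulAction ψ.range D := MulAction.compHom D ψ.range.subtype
  set O := MulAction.orbit ψ.range a with hO
  have hmem : ∀ g, ψ g a ∈ O := fun g => ⟨⟨ψ g, g, rfl⟩, rfl⟩
  have hclosed : ∀ g, ∀ x ∈ O, ψ g x ∈ O := by
    rintro g _ ⟨⟨_, g', rfl⟩, rfl⟩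
    exact ⟨⟨ψ (g * g'), g * g', rfl⟩, by show ψ (g * g') a = ψ g (ψ g' a); rw [map_mul]; rfl⟩
  have hone : (1 : D) ∉ O := by
    rintro ⟨⟨_, g, rfl⟩, hg⟩
    exact ha ((ψ g).injective (hg.trans (map_one _).symm))
  have hoff : ∃ x ∈ O, x ∉ B := by
    by_contra hno
    push Not at hno
    obtain ⟨g₀, hg₀⟩ := hA'
    have hbO : b ∈ O ∧ a * b ∈ O := by
      rcases (hB _).mp (hno _ (hmem g₀)) with h | h | h | h
      · exact absurd (h ▸ hmem g₀) hone
      · exact absurd h hg₀
      · exact ⟨h ▸ hmem g₀, h1b ▸ hclosed s₁ b (h ▸ hmem g₀)⟩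
      · refine ⟨?_, h ▸ hmem g₀⟩
        have := hclosed s₁ _ (h ▸ hmem g₀ : a * b ∈ O)
        rwa [map_mul, h1a, h1b, ← mul_assoc, hD2, one_mul] at this
    obtain ⟨g, x, hxB, hx⟩ := hB'
    rcases (hB x).mp hxB with rfl | rfl | rfl | rfl
    · exact hx (by rw [map_one]; exact one_mem B)
    · exact hx (hno _ (hmem g))
    · exact hx (hno _ (hclosed g _ hbO.1))
    · exact hx (hno _ (hclosed g _ hbO.2))
  -- all four elements off the plane
  have hBc4 : ∀ x ∈ O, x ∉ B → c ∈ O ∧ b * c ∈ O ∧ a * b * c ∈ O ∧ a * c ∈ O := by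
    intro x hx hxB
    have hcase : x = c ∨ x = b * c ∨ x = a * b * c ∨ x = a * c := by
      by_contra hno
      push Not at hno
      have h5 := Finset.card_le_univ ({1, a, b, a * b, c, b * c, a * b * c, a * c, x} : Finset D)
      have nB : ∀ y ∈ B, y ≠ x ∧ ∀ z ∈ B, y ≠ z * c := fun y hy =>
        ⟨fun e => hxB (e ▸ hy), fun z hz e => hc (by simpa [e] using mul_mem (inv_mem hz) hy)⟩
      have hbB : b ∈ B := (hB b).mpr (Or.inr (Or.inr (Or.inl rfl)))
      have haB : a ∈ B := (hB a).mpr (Or.inr (Or.inl rfl))
      have habB : a * b ∈ B := mul_mem haB hbB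
      obtain ⟨x1, y1⟩ := nB 1 (one_mem B)
      obtain ⟨x2, y2⟩ := nB a haB
      obtain ⟨x3, y3⟩ := nB b hbB
      obtain ⟨x4, y4⟩ := nB (a * b) habB
      have c1 := y1 1 (one_mem B); have c2 := y2 1 (one_mem B); have c3 := y3 1 (one_mem B)
      have c4 := y4 1 (one_mem B)
      rw [one_mul] at c1 c2 c3 c4
      rw [Finset.card_insert_of_notMem, Finset.card_insert_of_notMem, Finset.card_insert_of_notMem,
        Finset.card_insert_of_notMem, Finset.card_insert_of_notMem, Finset.card_insert_of_notMem,
        Finset.card_insert_of_notMem, Finset.card_insert_of_notMem, Finset.card_singleton, hDc] at h5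
      · omega
      all_goals simp only [Finset.mem_insert, Finset.mem_singleton, not_or, ne_eq]
      · exact hno.2.2.2.symm
      · exact ⟨fun e => hab.2.2.2.2 (mul_eq_left.mp (mul_right_cancel e)), hno.2.2.1.symm⟩
      · exact ⟨fun e => ha (mul_eq_right.mp (mul_right_cancel e).symm),
          fun e => hab.2.2.2.1 (mul_right_cancel e), hno.2.1.symm⟩
      · exact ⟨fun e => hab.2.2.2.2 (mul_eq_right.mp e.symm),
          fun e => hab.2.2.1 (mul_eq_right.mp e.symm), fun e => ha (mul_eq_right.mp e.symm),
          hno.1.symm⟩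
      · exact ⟨c4, y4 b hbB, y4 _ habB, y4 a haB, x4⟩
      · exact ⟨hab.2.1.symm, c3, y3 b hbB, y3 _ habB, y3 a haB, x3⟩
      · exact ⟨hab.2.2.2.1.symm, hab.1.symm, c2, y2 b hbB, y2 _ habB, y2 a haB, x2⟩
      · exact ⟨ha.symm, hab.2.2.2.2.symm, hab.2.2.1.symm, c1, y1 b hbB, y1 _ habB, y1 a haB, x1⟩
    have hcc : c ∈ O → c ∈ O ∧ b * c ∈ O ∧ a * b * c ∈ O ∧ a * c ∈ O := fun hcO => by
      have u1 : b * c ∈ O := h2c ▸ hclosed s₂ c hcO
      have u2 : a * b * c ∈ O := by
        have := hclosed s₁ _ u1
        rwa [map_mul, h1b, h1c] at this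
      have u3 : a * c ∈ O := by
        have := hclosed s₂ _ u2
        rwa [map_mul, map_mul, h2a, h2b, h2c, show a * b * (b * c) = a * (b * b) * c by ac_rfl, hD2,
          mul_one] at this
      exact ⟨hcO, u1, u2, u3⟩
    refine hcc ?_
    have hbc : b * c ∈ O → c ∈ O := fun u => by
      have := hclosed s₂ _ u
      rwa [map_mul, h2b, h2c, ← mul_assoc, hD2, one_mul] at this
    have habc : a * b * c ∈ O → c ∈ O := fun u => hbc (by
      have := hclosed s₁ _ u
      rwa [map_mul, map_mul, h1a, h1b, h1c, ← mul_assoc, hD2, one_mul] at this)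
    rcases hcase with rfl | rfl | rfl | rfl
    · exact hx
    · exact hbc hx
    · exact habc hx
    · refine habc ?_
      have := hclosed s₂ _ hx
      rwa [map_mul, h2a, h2c, ← mul_assoc] at this
  obtain ⟨x, hxO, hxB⟩ := hoff
  obtain ⟨u0, u1, u2, u3⟩ := hBc4 x hxO hxB
  have haO : a ∈ O := MulAction.mem_orbit_self a
  -- the order of the range
  have h168 : Nat.card ψ.range ∣ 168 := hcard ▸ card_subgroup_dvd_card _
  have horb : Nat.card O * Nat.card (MulAction.stabilizer ψ.range a) = Nat.card ψ.range := by
    have hcongr := Nat.card_congr (MulAction.orbitProdStabilizerEquivGroup ψ.range a)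
    rwa [Nat.card_prod] at hcongr
  have hstab : 8 ∣ Nat.card (MulAction.stabilizer ψ.range a) := by
    rw [← hP]
    refine (card_dvd_of_injective
      ({ toFun := fun y => ⟨⟨y.1, map_le_range _ _ y.2⟩, by
            obtain ⟨g, hg, e⟩ := y.2
            show (y.1 : MulAut D) a = a
            rw [← e]; exact hPa g hg⟩
         map_one' := rfl
         map_mul' := fun _ _ => rfl } : P.map ψ →* MulAction.stabilizer ψ.range a) ?_)
    intro y y' e
    exact Subtype.ext (congrArg (fun z : MulAction.stabilizer ψ.range a => (z.1.1 : MulAut D)) e)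
  have hO5 : 5 ≤ Nat.card O ∧ Nat.card O ≤ 7 ∧ (Nat.card O = 5 ∨ 7 ≤ Nat.card O) := by
    rw [Nat.card_coe_set_eq]
    have hbB : b ∈ B := (hB b).mpr (Or.inr (Or.inr (Or.inl rfl)))
    have haB : a ∈ B := (hB a).mpr (Or.inr (Or.inl rfl))
    have hoffB : ∀ z ∈ B, z * c ∉ B := fun z hz h => hc (by simpa using mul_mem (inv_mem hz) h)
    have n1 : c ∉ B := hc
    have n2 := hoffB b hbB; have n3 := hoffB _ (mul_mem haB hbB); have n4 := hoffB a haB
    have h5 : ({a, c, b * c, a * b * c, a * c} : Set D) ⊆ O := by
      intro z hz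
      simp only [Set.mem_insert_iff, Set.mem_singleton_iff] at hz
      rcases hz with rfl | rfl | rfl | rfl | rfl <;> assumption
    have h5c : ({a, c, b * c, a * b * c, a * c} : Set D).ncard = 5 := by
      rw [Set.ncard_insert_of_notMem, Set.ncard_insert_of_notMem, Set.ncard_insert_of_notMem,
        Set.ncard_insert_of_notMem, Set.ncard_singleton]
      all_goals simp only [Set.mem_insert_iff, Set.mem_singleton_iff, not_or]
      · exact fun e => hab.2.2.2.2 (mul_eq_left.mp (mul_right_cancel e))
      · exact ⟨fun e => ha (mul_eq_right.mp (mul_right_cancel e).symm),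
          fun e => hab.2.2.2.1 (mul_right_cancel e)⟩
      · exact ⟨fun e => hab.2.2.2.2 (mul_eq_right.mp e.symm),
          fun e => hab.2.2.1 (mul_eq_right.mp e.symm), fun e => ha (mul_eq_right.mp e.symm)⟩
      · exact ⟨fun e => hc (e ▸ haB), fun e => n2 (e ▸ haB), fun e => n3 (e ▸ haB), fun e => n4 (e ▸ haB)⟩
    refine ⟨h5c ▸ Set.ncard_le_ncard h5 (Set.toFinite _), ?_, ?_⟩
    · have := Set.ncard_le_ncard (s := O) (t := ({(1 : D)} : Set D)ᶜ)
        (fun z hz h => hone (Set.mem_singleton_iff.mp h ▸ hz)) (Set.toFinite _)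
      rwa [Set.ncard_compl, Set.ncard_singleton, hD] at this
    · by_cases hbO : b ∈ O
      · right
        have habO : a * b ∈ O := h1b ▸ hclosed s₁ b hbO
        refine le_trans ?_ (Set.ncard_le_ncard (s := insert b (insert (a * b) ({a, c, b * c, a * b * c, a * c} : Set D)))
          (Set.insert_subset hbO (Set.insert_subset habO h5)) (Set.toFinite _))
        rw [Set.ncard_insert_of_notMem, Set.ncard_insert_of_notMem, h5c]
        all_goals simp only [Set.mem_insert_iff, Set.mem_singleton_iff, not_or]
        · have := mul_mem haB hbB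
          exact ⟨hab.1, fun e => hc (e ▸ this), fun e => n2 (e ▸ this), fun e => n3 (e ▸ this), fun e => n4 (e ▸ this)⟩
        · exact ⟨hab.2.1.symm, hab.2.2.2.1, fun e => hc (e ▸ hbB), fun e => n2 (e ▸ hbB), fun e => n3 (e ▸ hbB), fun e => n4 (e ▸ hbB)⟩
      · left
        refine le_antisymm (h5c ▸ Set.ncard_le_ncard (fun z hz => ?_) (Set.toFinite _))
          (h5c ▸ Set.ncard_le_ncard h5 (Set.toFinite _))
        by_cases hzB : z ∈ B
        · rcases (hB z).mp hzB with rfl | rfl | rfl | rfl
          · exact absurd hz hone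
          · exact Or.inl rfl
          · exact absurd hz hbO
          · refine absurd ?_ hbO
            have := hclosed s₁ _ hz
            rwa [map_mul, h1a, h1b, ← mul_assoc, hD2, one_mul] at this
        · obtain ⟨w0, w1, w2, w3⟩ := hBc4 z hz hzB
          by_contra hz5
          simp only [Set.mem_insert_iff, Set.mem_singleton_iff, not_or] at hz5
          have h9 := Set.ncard_le_ncard (s := insert z ({a, c, b * c, a * b * c, a * c} : Set D))
            (t := ({1, b, a * b} : Set D)ᶜ) (fun y hy h => by
              simp only [Set.mem_insert_iff, Set.mem_singleton_iff] at h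
              have hyO : y ∈ O := by
                rcases hy with rfl | hy
                · exact hz
                · exact h5 hy
              rcases h with rfl | rfl | rfl
              · exact hone hyO
              · exact hbO hyO
              · have := hclosed s₁ _ hyO
                rw [map_mul, h1a, h1b, ← mul_assoc, hD2, one_mul] at this
                exact hbO this) (Set.toFinite _)
          rw [Set.ncard_insert_of_notMem (by simp [hz5]), h5c, Set.ncard_compl,
            Set.ncard_insert_of_notMem, Set.ncard_pair hab.2.1.symm, hD] at h9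
          · omega
          · simp [hab.2.2.2.2.symm, hab.2.2.1.symm]
  have h56 : Nat.card ψ.range = 56 ∨ Nat.card ψ.range = 168 := by
    obtain ⟨j, hj⟩ := hstab
    rcases hO5 with ⟨hge, hle7, h5 | h7⟩
    · exfalso
      rw [← horb, h5] at h168
      have := (Dvd.intro _ rfl : 5 ∣ 5 * _).trans h168
      omega
    · rw [le_antisymm hle7 h7, hj] at horb
      rw [← horb] at h168 ⊢
      have : j ∣ 3 := Nat.dvd_of_mul_dvd_mul_left (show 0 < 56 by norm_num) (by
        rw [show 56 * 3 = 168 from rfl, show 56 * j = 7 * (8 * j) by ring]; exact h168)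
      rcases (Nat.dvd_prime Nat.prime_three).mp this with rfl | rfl <;> simp
  rcases h56 with h56 | h56
  · exfalso
    have hidx : ψ.range.index = 3 := by
      have := ψ.range.card_mul_index
      rw [hcard, h56] at this; omega
    have hn : ψ.range.normalCore = ⊥ := (Subgroup.normalCore_normal ψ.range).eq_bot_or_eq_top.resolve_right
      fun h => by
        have := top_le_iff.mp (h ▸ ψ.range.normalCore_le)
        rw [this, index_top] at hidx; omega
    have hinj : Function.Injective (MulAction.toPermHom (MulAut D) (MulAut D ⧸ ψ.range)) := by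
      rw [← MonoidHom.ker_eq_bot_iff, ← Subgroup.normalCore_eq_ker, hn]
    have hle := Nat.card_le_card_of_injective _ hinj
    rw [hcard, Nat.card_perm, ← index_eq_card, hidx] at hle
    norm_num [Nat.factorial] at hle
  · rw [← MonoidHom.range_eq_top]
    exact eq_top_of_card_eq _ (h56.trans hcard.symm)

/-- An element of odd order commuting with a 2-group that has one fixed point is trivial. -/
theorem eq_one_of_commute {V : Type*} [CommGroup V] [Finite V] (h2 : ∀ v : V, v * v = 1)
    (P : Subgroup (MulAut V)) (hP : IsPGroup 2 P)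
    (hfix : ∀ v w : V, (∀ g ∈ P, g v = v) → (∀ g ∈ P, g w = w) → v ≠ 1 → w ≠ 1 → v = w)
    {φ : MulAut V} (hφ : Odd (orderOf φ)) (hc : ∀ g ∈ P, g * φ = φ * g) : φ = 1 := by
  classical
  haveI : Fact (Nat.Prime 2) := ⟨Nat.prime_two⟩
  haveI := Fintype.ofFinite V
  set m := orderOf φ
  let e : V →* V :=
    { toFun := fun v => ∏ k ∈ Finset.range m, (φ ^ k) v
      map_one' := by simp
      map_mul' := fun v w => by simp [Finset.prod_mul_distrib] }
  have heφ : ∀ v, φ (e v) = e v := by
    intro v
    have hm : (φ ^ m) v = v := by rw [pow_orderOf_eq_one]; rfl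
    show φ (∏ k ∈ Finset.range m, (φ ^ k) v) = ∏ k ∈ Finset.range m, (φ ^ k) v
    rw [map_prod]
    have h1 := Finset.prod_range_succ' (fun k => (φ ^ k) v) m
    have h2' := Finset.prod_range_succ (fun k => (φ ^ k) v) m
    rw [h2'] at h1
    simp only [pow_zero, MulAut.one_apply, hm] at h1
    refine Eq.trans ?_ (mul_right_cancel h1).symm
    exact Finset.prod_congr rfl fun k _ => by rw [pow_succ', MulAut.mul_apply]
  have hee : ∀ v, φ v = v → e v = v := by
    intro v hv
    have hk : ∀ k : ℕ, (φ ^ k) v = v := fun k => by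
      induction k with
      | zero => rfl
      | succ k ih => rw [pow_succ', MulAut.mul_apply, ih, hv]
    show ∏ k ∈ Finset.range m, (φ ^ k) v = v
    simp only [hk, Finset.prod_const, Finset.card_range]
    obtain ⟨j, hj⟩ := hφ
    rw [hj, pow_succ, pow_mul, sq, h2, one_pow, one_mul]
  have heg : ∀ g ∈ P, ∀ v, e (g v) = g (e v) := by
    intro g hg v
    show ∏ k ∈ Finset.range m, (φ ^ k) (g v) = g (∏ k ∈ Finset.range m, (φ ^ k) v)
    rw [map_prod]
    refine Finset.prod_congr rfl fun k _ => ?_
    have : Commute g (φ ^ k) := Commute.pow_right (hc g hg) k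
    rw [← MulAut.mul_apply, ← this.eq, MulAut.mul_apply]
  have hinj : Function.Injective e := by
    rw [← MonoidHom.ker_eq_bot_iff]
    by_contra hne
    have hfixed : ∀ (S : Subgroup V), (∀ g ∈ P, ∀ v ∈ S, g v ∈ S) → S ≠ ⊥ →
        ∃ v ∈ S, v ≠ 1 ∧ ∀ g ∈ P, g v = v := by
      intro S hS hSne
      letI : MulAction P S :=
        { smul := fun g v => ⟨(g : MulAut V) v, hS g g.2 v v.2⟩
          one_smul := fun v => rfl
          mul_smul := fun g g' v => rfl }
      have hdvd : 2 ∣ Nat.card S := by
        have hSp : IsPGroup 2 S := fun v => ⟨1, Subtype.ext (by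
          rw [pow_one, Subgroup.coe_pow, sq, h2]; rfl)⟩
        exact hSp.card_eq_or_dvd.resolve_left fun h => hSne (card_eq_one.mp h)
      obtain ⟨v, hv, hne1⟩ := hP.exists_fixed_point_of_prime_dvd_card_of_fixed_point S hdvd
        (a := (1 : S)) (fun g => Subtype.ext (map_one (g : MulAut V)))
      exact ⟨v, v.2, fun h => hne1 (Subtype.ext h.symm),
        fun g hg => congrArg Subtype.val (hv ⟨g, hg⟩)⟩
    obtain ⟨v, hv, hv1, hvP⟩ := hfixed e.ker (fun g hg v hv => by
      rw [MonoidHom.mem_ker] at hv ⊢
      rw [heg g hg, hv, map_one]) hne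
    -- the image also has a fixed point, unless it is trivial
    by_cases hr : e.range = ⊥
    · have hall : ∀ u, φ u = u → u = 1 := fun u hu => by
        rw [← hee u hu]
        exact mem_bot.mp (hr ▸ (⟨u, rfl⟩ : e u ∈ e.range))
      -- `φ v` is again fixed by `P`
      have hφv : φ v = v := by
        by_contra hne'
        have h1 : φ v ≠ 1 := fun h => hv1 (φ.injective (h.trans (map_one φ).symm))
        refine hne' (hfix _ _ (fun g hg => ?_) hvP h1 hv1)
        rw [← MulAut.mul_apply, hc g hg, MulAut.mul_apply, hvP g hg]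
      exact hv1 (hall v hφv)
    · obtain ⟨w, ⟨u, rfl⟩, hw1, hwP⟩ := hfixed e.range (fun g hg v hv => by
        obtain ⟨u, rfl⟩ := hv
        exact ⟨g u, heg g hg u⟩) hr
      have he := hfix v (e u) hvP hwP hv1 hw1
      rw [MonoidHom.mem_ker, he, hee _ (heφ u)] at hv
      exact hw1 hv
  refine MulEquiv.ext fun v => ?_
  obtain ⟨u, rfl⟩ := (Finite.injective_iff_surjective.mp hinj) v
  exact heφ u

theorem not_seven_dvd_mulAut {E : Type*} [CommGroup E] [Finite E] {r n : ℕ} [Fact r.Prime]
    (hE : ∀ x : E, x ^ r = 1) (hn : Nat.card E = r ^ n)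
    (hno : ¬ 7 ∣ ∏ i : Fin n, (r ^ n - r ^ (i : ℕ))) : ¬ 7 ∣ Nat.card (MulAut E) := by
  obtain ⟨e⟩ := nonempty_mulEquiv_GL hE hn
  rwa [Nat.card_congr e.toEquiv, Matrix.card_GL_field, ZMod.card]

/-- An involution of determinant one in dimension two is central. -/
theorem det_one_involution {F : Type*} [Field F] (h2 : (2 : F) ≠ 0)
    {M : Matrix (Fin 2) (Fin 2) F} (hM : M * M = 1) (hd : M.det = 1) : M = 1 ∨ M = -1 := by
  have hadj : M.adjugate = M := by
    calc M.adjugate = M * M * M.adjugate := by rw [hM, one_mul]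
      _ = M * (M * M.adjugate) := mul_assoc _ _ _
      _ = M := by rw [Matrix.mul_adjugate, hd, one_smul, mul_one]
  rw [Matrix.adjugate_fin_two] at hadj
  have h00 := congrFun (congrFun hadj 0) 0
  have h01 := congrFun (congrFun hadj 0) 1
  have h10 := congrFun (congrFun hadj 1) 0
  simp at h00 h01 h10
  have e01 : M 0 1 = 0 := (mul_eq_zero.mp (show 2 * M 0 1 = 0 by linear_combination -h01)).resolve_left h2
  have e10 : M 1 0 = 0 := (mul_eq_zero.mp (show 2 * M 1 0 = 0 by linear_combination -h10)).resolve_left h2
  rw [Matrix.det_fin_two, h00, e01, zero_mul, sub_zero] at hd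
  rcases mul_self_eq_one_iff.mp hd with h | h
  · left
    ext i j
    fin_cases i <;> fin_cases j <;> simp [h00, e01, e10, h]
  · right
    ext i j
    fin_cases i <;> fin_cases j <;> simp [h00, e01, e10, h]

end Cfsg.Agent.H53.Rudvalis
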