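import Mathlib

/-!
# Biadditive maps of weight two on a finite field of characteristic two, and complements
-/

set_option autoImplicit false
set_option linter.style.haveILetI false

namespace Cfsg.Agent.H53.Singer

variable {F : Type*} [Field F] [Finite F] [CharP F 2]

theorem add_eq_zero_of_symm_weight_two (M : F → F → F)
    (hadd : ∀ a b b', M a (b + b') = M a b + M a b') (hsym : ∀ a b, M a b = M b a)
    (hw : ∀ t : F, t ≠ 0 → ∀ a b, M (t * a) (t * b) = t ^ 2 * M a b) (h11 : M 1 1 = 0) :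
    ∀ a b, M a b = 0 := by
  set h : F → F := fun x => M 1 x with hh
  have h0 : ∀ a, M a 0 = 0 := fun a => by
    have := hadd a 0 0
    rw [add_zero] at this
    exact left_eq_add.mp this
  have hinv : ∀ x : F, x ≠ 0 → h x⁻¹ * x ^ 2 = h x := fun x hx => by
    have := hw x hx 1 x⁻¹
    rw [mul_one, mul_inv_cancel₀ hx] at this
    simp only [hh]
    rw [hsym 1 x, this, mul_comm]
  have hsq : ∀ x : F, h (x ^ 2) = 0 := by
    intro x
    rcases eq_or_ne x 0 with rfl | hx
    · simpa [hh] using h0 1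
    rcases eq_or_ne x 1 with rfl | hx1
    · simpa [hh] using h11
    have hx2 : x + 1 ≠ 0 := fun e => hx1 (by
      rw [eq_neg_of_add_eq_zero_left e, CharTwo.neg_eq])
    have hy : x ^ 2 + x ≠ 0 := by
      rw [show x ^ 2 + x = x * (x + 1) by ring]; exact mul_ne_zero hx hx2
    have hone : h (x + 1) = h x := by
      simp only [hh, hadd, h11, add_zero]
    have e : (x ^ 2 + x)⁻¹ = x⁻¹ + (x + 1)⁻¹ := by
      field_simp
      linear_combination (-x) * CharTwo.two_eq_zero (R := F)
    have e2 : h (x ^ 2 + x)⁻¹ * (x ^ 2 + x) ^ 2 = h x := by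
      have i1 := hinv x hx
      have i2 := hinv (x + 1) hx2
      rw [hone] at i2
      rw [e, show h (x⁻¹ + (x + 1)⁻¹) = h x⁻¹ + h (x + 1)⁻¹ from hadd 1 _ _,
        show x ^ 2 + x = x * (x + 1) by ring, mul_pow]
      linear_combination (x + 1) ^ 2 * i1 + x ^ 2 * i2 + (x ^ 2 + x) * h x * CharTwo.two_eq_zero (R := F)
    rw [hinv _ hy] at e2
    simp only [hh, hadd] at e2
    simpa [hh] using e2
  intro a b
  rcases eq_or_ne a 0 with rfl | ha
  · rw [hsym]; exact h0 b
  have := hw a ha 1 (b / a)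
  rw [mul_one, mul_div_cancel₀ b ha] at this
  obtain ⟨x, hx⟩ := (frobeniusEquiv F 2).surjective (b / a)
  rw [this, ← hx, show M 1 (frobeniusEquiv F 2 x) = h (x ^ 2) by
    rw [frobeniusEquiv_apply]; rfl, hsq, mul_zero]

/-- A biadditive map of weight two is a multiple of the product. -/
theorem weight_two (M : F → F → F) (haddl : ∀ a a' b, M (a + a') b = M a b + M a' b)
    (hadd : ∀ a b b', M a (b + b') = M a b + M a b')
    (hw : ∀ t : F, t ≠ 0 → ∀ a b, M (t * a) (t * b) = t ^ 2 * M a b) (a b : F) :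
    M a b = M 1 1 * a * b := by
  have hN := add_eq_zero_of_symm_weight_two (fun a b => M a b + M b a)
    (fun a b b' => by simp only [hadd, haddl]; ring) (fun a b => add_comm _ _)
    (fun t ht a b => by simp only [hw t ht]; ring) (CharTwo.add_self_eq_zero _)
  have hsym : ∀ a b, M a b = M b a := fun a b => CharTwo.add_eq_zero.mp (hN a b)
  have := add_eq_zero_of_symm_weight_two (fun a b => M a b + M 1 1 * a * b)
    (fun a b b' => by simp only [hadd]; ring) (fun a b => by simp only [hsym a b]; ring)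
    (fun t ht a b => by simp only [hw t ht]; ring)
    (by simp only [mul_one]; exact CharTwo.add_self_eq_zero _) a b
  exact CharTwo.add_eq_zero.mp this

/-- An alternating biadditive map of weight two vanishes. -/
theorem weight_two_alternating (M : F → F → F) (haddl : ∀ a a' b, M (a + a') b = M a b + M a' b)
    (hadd : ∀ a b b', M a (b + b') = M a b + M a b')
    (hw : ∀ t : F, t ≠ 0 → ∀ a b, M (t * a) (t * b) = t ^ 2 * M a b) (halt : ∀ a, M a a = 0)
    (a b : F) : M a b = 0 := by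
  rw [weight_two M haddl hadd hw a b, halt 1, zero_mul, zero_mul]

/-- Square roots in characteristic two. -/
noncomputable def sqrt₂ (x : F) : F := (frobeniusEquiv F 2).symm x

theorem sqrt₂_sq (x : F) : sqrt₂ x ^ 2 = x := frobeniusEquiv_symm_pow_p F 2 x

theorem sqrt₂_add (x y : F) : sqrt₂ (x + y) = sqrt₂ x + sqrt₂ y := map_add _ x y

theorem sqrt₂_mul (x y : F) : sqrt₂ (x * y) = sqrt₂ x * sqrt₂ y := map_mul _ x y

theorem sqrt₂_zero : sqrt₂ (0 : F) = 0 := map_zero _

theorem sqrt₂_of_sq (x : F) : sqrt₂ (x ^ 2) = x := by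
  exact (frobeniusEquiv F 2).symm_apply_apply x

theorem sqrt₂_injective {x y : F} (h : sqrt₂ x = sqrt₂ y) : x = y := by
  rw [← sqrt₂_sq x, h, sqrt₂_sq]

/-- A maximal subgroup meeting `Z` trivially complements it when all squares and commutators
lie in it. -/
theorem exists_complement {G : Type*} [Group G] [Finite G] (N Z : Subgroup G)
    (hsq : ∀ x : G, x * x ∈ N) (hNZ : N ⊓ Z = ⊥) (hZc : Z ≤ Subgroup.center G) :
    ∃ K : Subgroup G, N ≤ K ∧ K ⊓ Z = ⊥ ∧ ∀ x : G, ∃ k ∈ K, ∃ z ∈ Z, x = k * z := by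
  obtain ⟨K, hK⟩ := Set.Finite.exists_maximal
    (s := {K : Subgroup G | N ≤ K ∧ K ⊓ Z = ⊥}) (Set.toFinite _) ⟨N, le_rfl, hNZ⟩
  refine ⟨K, hK.1.1, hK.1.2, fun x => ?_⟩
  by_contra hno
  push Not at hno
  have hcomm : ∀ a b : G, a * b * a⁻¹ * b⁻¹ ∈ K := fun a b => hK.1.1 (by
    rw [show a * b * a⁻¹ * b⁻¹ = a * a * ((a⁻¹ * b) * (a⁻¹ * b)) * (b⁻¹ * b⁻¹) by group]
    exact mul_mem (mul_mem (hsq _) (hsq _)) (hsq _))
  have hxx : x * x ∈ K := hK.1.1 (hsq x)
  have hconj : ∀ k ∈ K, x * k * x⁻¹ ∈ K := fun k hk => by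
    have := mul_mem (hcomm x k) hk
    simpa using this
  have hconj' : ∀ k ∈ K, x⁻¹ * k * x ∈ K := fun k hk => by
    have := mul_mem (hcomm x⁻¹ k) hk
    simpa using this
  let L : Subgroup G :=
    { carrier := {g | g ∈ K ∨ g * x ∈ K}
      one_mem' := Or.inl (one_mem K)
      mul_mem' := fun {g g'} hg hg' => by
        rcases hg with hg | hg <;> rcases hg' with hg' | hg'
        · exact Or.inl (mul_mem hg hg')
        · right; rw [mul_assoc]; exact mul_mem hg hg'
        · right
          rw [show g * g' * x = g * x * (x⁻¹ * g' * x) by group]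
          exact mul_mem hg (hconj' g' hg')
        · left
          rw [show g * g' = g * x * (x⁻¹ * (g' * x) * x) * (x * x)⁻¹ by group]
          exact mul_mem (mul_mem hg (hconj' _ hg')) (inv_mem hxx)
      inv_mem' := fun {g} hg => by
        rcases hg with hg | hg
        · exact Or.inl (inv_mem hg)
        · right
          rw [show g⁻¹ * x = x * (g * x)⁻¹ * x⁻¹ * (x * x) by group]
          exact mul_mem (hconj _ (inv_mem hg)) hxx }
  have hKL : K ≤ L := fun g hg => Or.inl hg
  have hLZ : L ⊓ Z = ⊥ := by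
    rw [eq_bot_iff]
    rintro z ⟨hz | hz, hzZ⟩
    · exact hK.1.2.le ⟨hz, hzZ⟩
    · refine absurd ?_ (hno _ hz z⁻¹ (inv_mem hzZ))
      rw [← Subgroup.mem_center_iff.mp (hZc hzZ) x, mul_inv_cancel_right]
  have hxL : x ∈ L := Or.inr hxx
  have hxK : x ∈ K := hK.2 ⟨hK.1.1.trans hKL, hLZ⟩ hKL hxL
  exact hno x hxK 1 (one_mem Z) (mul_one x).symm

end Cfsg.Agent.H53.Singer
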