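import Cfsg.Agent.H53.SingerField

/-!
# Central extensions of exponent-two groups are determined by their squaring maps
-/

set_option autoImplicit false
set_option linter.style.haveILetI false
open Subgroup

namespace Cfsg.Agent.H53.Singer

variable {G G' W F : Type*} [Group G] [Finite G] [Group G'] [Finite G']

/-- Two groups with central subgroups `Z`, `Z'` coordinatized by `F`, with quotients
coordinatized by `W`, and with the same squaring map, are isomorphic. -/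
theorem nonempty_mulEquiv_of_sq [AddCommGroup W] [AddCommGroup F] (Z : Subgroup G)
    (Z' : Subgroup G') (hZ : Z ≤ center G) (hZ' : Z' ≤ center G') (f : G → W) (f' : G' → W)
    (hf : ∀ x y, f (x * y) = f x + f y) (hf' : ∀ x y, f' (x * y) = f' x + f' y)
    (hfs : ∀ w, ∃ x, f x = w) (hfs' : ∀ w, ∃ x, f' x = w)
    (hk : ∀ x, f x = 0 ↔ x ∈ Z) (hk' : ∀ x, f' x = 0 ↔ x ∈ Z')
    (κ : G → F) (κ' : G' → F)
    (hκ : ∀ z ∈ Z, ∀ w ∈ Z, κ (z * w) = κ z + κ w)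
    (hκ' : ∀ z ∈ Z', ∀ w ∈ Z', κ' (z * w) = κ' z + κ' w)
    (hκi : ∀ z ∈ Z, κ z = 0 → z = 1) (hκi' : ∀ z ∈ Z', κ' z = 0 → z = 1)
    (hκs : ∀ c, ∃ z ∈ Z, κ z = c) (hκs' : ∀ c, ∃ z ∈ Z', κ' z = c)
    (hsq : ∀ x x', f x = f' x' → x * x ∈ Z ∧ x' * x' ∈ Z' ∧ κ (x * x) = κ' (x' * x')) :
    Nonempty (G ≃* G') := by
  have hf1 : f 1 = 0 := (hk 1).mpr (one_mem Z)
  have hf1' : f' 1 = 0 := (hk' 1).mpr (one_mem Z')
  have hκ1 : κ 1 = 0 := by
    have := hκ 1 (one_mem Z) 1 (one_mem Z); rw [one_mul] at this; exact left_eq_add.mp this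
  have hκ1' : κ' 1 = 0 := by
    have := hκ' 1 (one_mem Z') 1 (one_mem Z'); rw [one_mul] at this; exact left_eq_add.mp this
  let H : Subgroup (G × G') :=
    { carrier := {p | f p.1 = f' p.2}
      one_mem' := hf1.trans hf1'.symm
      mul_mem' := fun {a b} (ha : f a.1 = f' a.2) (hb : f b.1 = f' b.2) => by
        show f (a.1 * b.1) = f' (a.2 * b.2)
        rw [hf, hf', ha, hb]
      inv_mem' := fun {a} (ha : f a.1 = f' a.2) => by
        show f a.1⁻¹ = f' a.2⁻¹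
        have h1 := hf a.1 a.1⁻¹
        have h2 := hf' a.2 a.2⁻¹
        rw [mul_inv_cancel, hf1] at h1
        rw [mul_inv_cancel, hf1', ← ha] at h2
        exact add_left_cancel (h1.symm.trans h2) }
  let N : Subgroup H :=
    { carrier := {p | p.1.1 ∈ Z ∧ p.1.2 ∈ Z' ∧ κ p.1.1 = κ' p.1.2}
      one_mem' := ⟨one_mem Z, one_mem Z', hκ1.trans hκ1'.symm⟩
      mul_mem' := fun {a b} ha hb => ⟨mul_mem ha.1 hb.1, mul_mem ha.2.1 hb.2.1, by
        show κ (a.1.1 * b.1.1) = κ' (a.1.2 * b.1.2)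
        rw [hκ _ ha.1 _ hb.1, hκ' _ ha.2.1 _ hb.2.1, ha.2.2, hb.2.2]⟩
      inv_mem' := fun {a} ha => ⟨inv_mem ha.1, inv_mem ha.2.1, by
        show κ a.1.1⁻¹ = κ' a.1.2⁻¹
        have h1 := hκ _ ha.1 _ (inv_mem ha.1)
        have h2 := hκ' _ ha.2.1 _ (inv_mem ha.2.1)
        rw [mul_inv_cancel, hκ1] at h1
        rw [mul_inv_cancel, hκ1', ← ha.2.2] at h2
        exact add_left_cancel (h1.symm.trans h2)⟩ }
  let Z₁ : Subgroup H :=
    { carrier := {p | p.1.1 ∈ Z ∧ p.1.2 = 1}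
      one_mem' := ⟨one_mem Z, rfl⟩
      mul_mem' := fun {a b} ha hb => ⟨mul_mem ha.1 hb.1, by
        show a.1.2 * b.1.2 = 1
        rw [ha.2, hb.2, mul_one]⟩
      inv_mem' := fun {a} ha => ⟨inv_mem ha.1, by show a.1.2⁻¹ = 1; rw [ha.2, inv_one]⟩ }
  obtain ⟨K, hNK, hKZ, hsup⟩ := exists_complement N Z₁ (fun p => hsq _ _ p.2) (by
      rw [eq_bot_iff]
      rintro p ⟨⟨h1, -, h3⟩, -, h4⟩
      rw [h4, hκ1'] at h3
      exact mem_bot.mpr (Subtype.ext (Prod.ext (hκi _ h1 h3) h4)))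
    (fun p hp => mem_center_iff.mpr fun g => Subtype.ext (Prod.ext
      (mem_center_iff.mp (hZ hp.1) g.1.1) (by
        show g.1.2 * p.1.2 = p.1.2 * g.1.2
        rw [hp.2, mul_one, one_mul])))
  let π₁ : K →* G := ((MonoidHom.fst G G').comp H.subtype).comp K.subtype
  let π₂ : K →* G' := ((MonoidHom.snd G G').comp H.subtype).comp K.subtype
  have hlift : ∀ p : H, ∃ k ∈ K, ∃ z ∈ Z, p.1.1 = k.1.1 * z ∧ p.1.2 = k.1.2 := fun p => by
    obtain ⟨k, hk, z, hz, e⟩ := hsup p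
    refine ⟨k, hk, z.1.1, hz.1, congrArg (fun x : H => x.1.1) e, ?_⟩
    have := congrArg (fun x : H => x.1.2) e
    simpa [hz.2] using this
  have hb1 : Function.Bijective π₁ := by
    constructor
    · rw [← MonoidHom.ker_eq_bot_iff, eq_bot_iff]
      rintro ⟨p, hp⟩ (h1 : p.1.1 = 1)
      have h2 : p.1.2 ∈ Z' := (hk' _).mp (by rw [← show f p.1.1 = f' p.1.2 from p.2, h1, hf1])
      obtain ⟨z, hz, hzc⟩ := hκs (κ' p.1.2)
      let r : H := ⟨(z, p.1.2), ((hk z).mpr hz).trans ((hk' _).mpr h2).symm⟩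
      have hr : r ∈ K := hNK ⟨hz, h2, hzc⟩
      have hd : r * p⁻¹ ∈ K ⊓ Z₁ := by
        refine ⟨K.mul_mem hr (K.inv_mem hp), ?_, ?_⟩
        · show z * p.1.1⁻¹ ∈ Z
          rw [h1, inv_one, mul_one]; exact hz
        · exact mul_inv_cancel p.1.2
      rw [hKZ, mem_bot, mul_inv_eq_one] at hd
      have hz1 : z = 1 := (congrArg (fun x : H => x.1.1) hd).trans h1
      rw [hz1, hκ1] at hzc
      exact mem_bot.mpr (Subtype.ext (Subtype.ext (Prod.ext h1 (hκi' _ h2 hzc.symm))))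
    · intro x
      obtain ⟨x', hx'⟩ := hfs' (f x)
      obtain ⟨k, hk2, z, hz, e1, -⟩ := hlift ⟨(x, x'), hx'.symm⟩
      obtain ⟨z', hz', hzc⟩ := hκs' (κ z)
      let r : H := ⟨(z, z'), ((hk z).mpr hz).trans ((hk' _).mpr hz').symm⟩
      exact ⟨⟨k * r, mul_mem hk2 (hNK ⟨hz, hz', hzc.symm⟩)⟩, e1.symm⟩
  have hb2 : Function.Bijective π₂ := by
    constructor
    · rw [← MonoidHom.ker_eq_bot_iff, eq_bot_iff]
      rintro ⟨p, hp⟩ (h1 : p.1.2 = 1)
      have hd : p ∈ K ⊓ Z₁ := ⟨hp, (hk _).mp (by rw [show f p.1.1 = f' p.1.2 from p.2, h1, hf1']), h1⟩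
      rw [hKZ, mem_bot] at hd
      exact mem_bot.mpr (Subtype.ext hd)
    · intro x'
      obtain ⟨x, hx⟩ := hfs (f' x')
      obtain ⟨k, hk2, z, -, -, e2⟩ := hlift ⟨(x, x'), hx⟩
      exact ⟨⟨k, hk2⟩, e2.symm⟩
  exact ⟨(MulEquiv.ofBijective π₁ hb1).symm.trans (MulEquiv.ofBijective π₂ hb2)⟩

end Cfsg.Agent.H53.Singer
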