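import Cfsg.Agent.H53.SingerTwoGroup
import Cfsg.Agent.H53.SqExtension
import Cfsg.Agent.H50.PSUThreeSylow
import Cfsg.Agent.H61.L34Model

/-!
# The nonabelian groups of `Singer.Hyp` are Sylow 2-subgroups of `PSU₃` or `PSL₃`
-/

set_option autoImplicit false
set_option linter.style.haveILetI false
set_option linter.unusedSectionVars false
open Subgroup Matrix Cfsg.Agent.H61

namespace Cfsg.Agent.H53.Singer

section PSL

variable {F : Type*} [Field F] [Fintype F]

/-- The Sylow 2-subgroups of `PSL₃` over a field of order `2 ^ n` are unitriangular groups. -/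
theorem nonempty_equiv_UT {n : ℕ} (hn : 1 ≤ n) (hF : Fintype.card F = 2 ^ n)
    (S : Sylow 2 (ProjectiveSpecialLinearGroup (Fin 3) F)) :
    Nonempty (L34.UT F ≃* (S : Subgroup (ProjectiveSpecialLinearGroup (Fin 3) F))) := by
  classical
  have : Fact (Nat.Prime 2) := ⟨Nat.prime_two⟩
  let π : L34.UT F →* ProjectiveSpecialLinearGroup (Fin 3) F :=
    (QuotientGroup.mk' (Subgroup.center (SpecialLinearGroup (Fin 3) F))).comp (L34.UT F).subtype
  have hinj : Function.Injective π := by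
    rw [← MonoidHom.ker_eq_bot_iff, eq_bot_iff]
    rintro ⟨g, a, b, c, rfl⟩ hg
    have hg' : L34.um a b c ∈ Subgroup.center (SpecialLinearGroup (Fin 3) F) :=
      (QuotientGroup.eq_one_iff _).1 hg
    obtain ⟨r, -, hr⟩ := Matrix.SpecialLinearGroup.mem_center_iff.1 hg'
    rw [L34.um_val] at hr
    have h1 := congrFun (congrFun hr 0) 1
    have h2 := congrFun (congrFun hr 1) 2
    have h3 := congrFun (congrFun hr 0) 2
    simp at h1 h2 h3
    rw [Subgroup.mem_bot]
    refine Subtype.ext ?_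
    show L34.um a b c = 1
    rw [← L34.um_one, L34.um_eq_iff]
    exact ⟨h1.symm, h2.symm, h3.symm⟩
  have hp : IsPGroup 2 π.range :=
    (IsPGroup.of_card (n := n * 3) (by rw [L34.card_UT, hF, pow_mul]) :
      IsPGroup 2 (L34.UT F)).of_equiv (MonoidHom.ofInjective hinj)
  have hidx : ¬ 2 ∣ π.range.index := by
    intro hX
    have h1 := H1.sub_one_mul_card_SL hF 3 (by norm_num)
    have h2 := H1.gcd_mul_card_PSL (ι := Fin 3) (F := F)
    rw [← π.range.card_mul_index, ← Nat.card_congr (MonoidHom.ofInjective hinj).toEquiv,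
      L34.card_UT, hF] at h2
    rw [← h2] at h1
    simp only [Fin.prod_univ_three, Fin.val_zero, Fin.val_one, Fin.val_two, pow_zero, pow_one] at h1
    obtain ⟨k, hk⟩ : 2 ∣ 2 ^ n := dvd_pow_self 2 (by omega)
    have hk0 : 1 ≤ k := by have := Nat.one_le_two_pow (n := n); omega
    generalize 2 ^ n = q at h1 hk
    subst hk
    generalize Nat.gcd (Fintype.card (Fin 3)) (Nat.card Fˣ) = d at h1
    obtain ⟨i, hi⟩ := hX
    have e1 : (2 * k) ^ 3 - 2 * k = 2 * k * ((2 * k) ^ 2 - 1) := by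
      rw [Nat.mul_sub, mul_one, ← pow_succ']
    have e2 : (2 * k) ^ 3 - (2 * k) ^ 2 = (2 * k) ^ 2 * (2 * k - 1) := by
      rw [Nat.mul_sub, mul_one, ← pow_succ]
    rw [e1, e2, hi] at h1
    have h3 : (2 : ℕ) ∣ ((2 * k) ^ 3 - 1) * ((2 * k) ^ 2 - 1) := by
      refine ⟨d * i, Nat.eq_of_mul_eq_mul_left
        (show 0 < (2 * k) ^ 3 * (2 * k - 1) by
          have : 0 < 2 * k - 1 := by omega
          positivity) ?_⟩
      linear_combination -h1
    rcases Nat.prime_two.dvd_mul.1 h3 with h3 | h3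
    · have : (2 * k) ^ 3 = 2 * (4 * (k * k * k)) := by ring
      have : 1 ≤ k * k * k := Nat.mul_pos (Nat.mul_pos hk0 hk0) hk0
      omega
    · have : (2 * k) ^ 2 = 2 * (2 * (k * k)) := by ring
      have : 1 ≤ k * k := Nat.mul_pos hk0 hk0
      omega
  exact ⟨(MonoidHom.ofInjective hinj).trans ((hp.toSylow hidx).equiv S)⟩

end PSL

universe u

variable {Q : Type u} [Group Q] [Finite Q] {α ρ : MulAut Q} {C : Subgroup Q} {q : ℕ}
  {F : Type} [Field F] [Fintype F] [CharP F 2] {g : F} {κ u v : Q → F} {a : F}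

/-- A root of `r² + r + a` gives the unitriangular group. -/
theorem nonempty_equiv_of_root (h : Hyp α ρ C q) (hc : Coord α ρ C g κ u v a) (r : F)
    (hr : r ^ 2 + r + a = 0) : Nonempty (Q ≃* L34.UT F) := by
  have h2 : (2 : F) = 0 := CharTwo.two_eq_zero
  let A : L34.UT F → F := fun x => x.1.1 0 1
  let B : L34.UT F → F := fun x => x.1.1 1 2
  let K : L34.UT F → F := fun x => x.1.1 0 2
  have he : ∀ x : L34.UT F, x = L34.ue (A x) (B x) (K x) := by
    rintro ⟨_, a, b, c, rfl⟩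
    exact Subtype.ext (L34.um_eq_iff.2 ⟨by simp [A, L34.um_val], by simp [B, L34.um_val],
      by simp [K, L34.um_val]⟩)
  have hA : ∀ a b c : F, A (L34.ue a b c) = a ∧ B (L34.ue a b c) = b ∧ K (L34.ue a b c) = c :=
    fun a b c => ⟨by simp [A, L34.ue, L34.um_val], by simp [B, L34.ue, L34.um_val],
      by simp [K, L34.ue, L34.um_val]⟩
  have hm : ∀ x y, A (x * y) = A x + A y ∧ B (x * y) = B x + B y ∧
      K (x * y) = K x + K y + A x * B y := fun x y => by
    conv => enter [1, 1, 1]; rw [he x, he y, L34.ue_mul]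
    conv => enter [2, 1, 1, 1]; rw [he x, he y, L34.ue_mul]
    conv => enter [2, 2, 1, 1]; rw [he x, he y, L34.ue_mul]
    exact hA _ _ _
  let f' : L34.UT F → F × F := fun x => (A x, B x)
  let Z' : Subgroup (L34.UT F) :=
    { carrier := {x | A x = 0 ∧ B x = 0}
      one_mem' := ⟨by simp [A], by simp [B]⟩
      mul_mem' := fun {x y} hx hy => ⟨by rw [(hm x y).1, hx.1, hy.1, add_zero],
        by rw [(hm x y).2.1, hx.2, hy.2, add_zero]⟩
      inv_mem' := fun {x} hx => by
        have := hm x x⁻¹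
        rw [mul_inv_cancel, hx.1, hx.2, show A (1 : L34.UT F) = 0 by simp [A],
          show B (1 : L34.UT F) = 0 by simp [B], zero_add, zero_add] at this
        exact ⟨this.1.symm, this.2.1.symm⟩ }
  refine nonempty_mulEquiv_of_sq C Z' h.le_center ?_
    (fun x => (v x + r * u x, v x + (r + 1) * u x)) f' ?_ ?_ ?_ ?_ ?_ ?_ κ K hc.fc.mul ?_ hc.fc.inj
    ?_ hc.fc.surj ?_ ?_
  · intro x hx
    refine Subgroup.mem_center_iff.2 fun y => ?_
    rw [he x, he y, hx.1, hx.2, L34.ue_mul, L34.ue_mul, L34.ue_eq_iff]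
    exact ⟨by ring, by ring, by ring⟩
  · intro x y
    rw [hc.u_mul, hc.v_mul, Prod.mk_add_mk, Prod.mk.injEq]
    exact ⟨by ring, by ring⟩
  · intro x y
    exact Prod.ext (hm x y).1 (hm x y).2.1
  · rintro ⟨p, s⟩
    obtain ⟨x, hu, hv⟩ := hc.surj (p + s) (p + r * (p + s))
    refine ⟨x, ?_⟩
    rw [hu, hv, Prod.mk.injEq]
    exact ⟨by linear_combination (r * (p + s)) * h2,
      by linear_combination (p + r * (p + s)) * h2⟩
  · rintro ⟨p, s⟩
    exact ⟨L34.ue p s 0, Prod.ext (hA p s 0).1 (hA p s 0).2.1⟩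
  · intro x
    rw [← hc.ker, Prod.mk_eq_zero]
    constructor
    · rintro ⟨h1, h3⟩
      have hu : u x = 0 := by linear_combination h3 - h1
      exact ⟨hu, by rw [hu] at h1; linear_combination h1⟩
    · rintro ⟨h1, h3⟩
      rw [h1, h3]
      exact ⟨by ring, by ring⟩
  · intro x
    exact Prod.mk_eq_zero
  · intro z hz w _
    rw [(hm z w).2.2, hz.1, zero_mul, add_zero]
  · intro z hz h0
    rw [he z, hz.1, hz.2, h0]
    exact Subtype.ext L34.um_one
  · intro c
    exact ⟨L34.ue 0 0 c, ⟨(hA 0 0 c).1, (hA 0 0 c).2.1⟩, (hA 0 0 c).2.2⟩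
  · intro x x' e
    obtain ⟨e1, e2⟩ := Prod.mk.injEq _ _ _ _ ▸ e
    refine ⟨hc.sq_mem x, ⟨by rw [(hm _ _).1]; exact CharTwo.add_self_eq_zero _,
      by rw [(hm _ _).2.1]; exact CharTwo.add_self_eq_zero _⟩, ?_⟩
    rw [hc.sq, (hm _ _).2.2, CharTwo.add_self_eq_zero, zero_add, ← e1, ← e2]
    linear_combination -(u x) ^ 2 * hr + (a * u x ^ 2 - r * u x * v x) * h2

/-- Without a root, the group is the Sylow 2-subgroup of `SU₃` over the quadratic extension. -/
theorem exists_unitary_of_no_root (h : Hyp α ρ C q) (hc : Coord α ρ C g κ u v a)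
    (hq : Fintype.card F = q) {n : ℕ} (hn : 1 ≤ n) (hqn : q = 2 ^ n)
    (hr : ∀ r : F, r ^ 2 + r + a ≠ 0) :
    ∃ (E : Type) (_ : Field E) (_ : Fintype E), Fintype.card E = q ^ 2 ∧
      ∀ S : Sylow 2 (Cfsg.PSU 3 E q), Nonempty (Q ≃* (S : Subgroup (Cfsg.PSU 3 E q))) := by
  classical
  have h2 : (2 : F) = 0 := CharTwo.two_eq_zero
  haveI : Fact (∀ r : F, r ^ 2 ≠ a + 1 * r) :=
    ⟨fun r e => hr r (by linear_combination e + (a + r) * h2)⟩
  letI : Fintype (QuadraticAlgebra F a 1) := Fintype.ofEquiv _ (QuadraticAlgebra.equivProd a 1).symm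
  have hE : Fintype.card (QuadraticAlgebra F a 1) = q ^ 2 := by
    rw [Fintype.card_congr (QuadraticAlgebra.equivProd a 1), Fintype.card_prod, hq, sq]
  subst hqn
  have H := H50.PSUThree.hyp_of_card hn hE
  refine ⟨QuadraticAlgebra F a 1, inferInstance, inferInstance, hE, fun S => ?_⟩
  obtain ⟨eS⟩ := H.nonempty_equiv rfl S
  have hfrob : ∀ t : F, t ^ 2 ^ n = t := fun t => hq ▸ FiniteField.pow_card t
  have halg : ∀ t : F, (algebraMap F (QuadraticAlgebra F a 1) t) ^ 2 ^ n =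
      algebraMap F (QuadraticAlgebra F a 1) t := fun t => by rw [← map_pow, hfrob]
  let w : QuadraticAlgebra F a 1 := ⟨0, 1⟩
  have hmk : ∀ z : QuadraticAlgebra F a 1,
      z = algebraMap F _ z.re + algebraMap F _ z.im * w := fun z => by
    ext <;> simp [w]
  have hw : w * w = algebraMap F _ a + w := by
    ext <;> simp [w]
  have hwq : w ^ 2 ^ n = w + 1 := by
    set z := w ^ 2 ^ n with hz
    have hzz : z * z = algebraMap F _ a + z := by
      rw [hz, ← mul_pow, hw, H3.add_pow_q hE, halg]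
    have : (z - w) * (z - (w + 1)) = 0 := by
      linear_combination hzz - hw + (w * w - w * z) * H.two
    rcases mul_eq_zero.1 this with e | e
    · exfalso
      rw [sub_eq_zero] at e
      have hall : ∀ x : QuadraticAlgebra F a 1, x ^ 2 ^ n = x := fun x => by
        rw [hmk x, H3.add_pow_q hE, mul_pow, halg, halg, ← hz, e]
      have hf := H3.card_fixed hE
      rw [Nat.card_congr (Equiv.subtypeUnivEquiv hall), Nat.card_eq_fintype_card, hE] at hf
      have : 2 ≤ 2 ^ n := H3.two_le_q hE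
      nlinarith
    · exact sub_eq_zero.1 e
  have hnorm : ∀ z : QuadraticAlgebra F a 1, z ^ (2 ^ n + 1) =
      algebraMap F _ (z.re ^ 2 + z.im * z.re + a * z.im ^ 2) := fun z => by
    rw [pow_succ]
    conv_lhs => rw [hmk z, H3.add_pow_q hE, mul_pow, halg, halg, hwq]
    simp only [map_add, map_mul, map_pow]
    linear_combination (algebraMap F (QuadraticAlgebra F a 1) z.im) ^ 2 * hw +
      (algebraMap F (QuadraticAlgebra F a 1) z.im * algebraMap F _ z.re * w +
        (algebraMap F (QuadraticAlgebra F a 1) z.im) ^ 2 * w) * H.two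
  let A : H.U → QuadraticAlgebra F a 1 := fun x => x.1.1 1 2
  let K : H.U → QuadraticAlgebra F a 1 := fun x => x.1.1 0 2
  have hA : ∀ {x c : QuadraticAlgebra F a 1} (h0 : c + c ^ 2 ^ n = x ^ (2 ^ n + 1)),
      A (H.elt x c h0) = x ∧ K (H.elt x c h0) = c := fun h0 =>
    ⟨by simp [A, H.elt_val, H50.PSUThree.mat_val], by simp [K, H.elt_val, H50.PSUThree.mat_val]⟩
  have hm : ∀ x y, A (x * y) = A x + A y ∧ K (x * y) = K x + K y + A x ^ 2 ^ n * A y := fun x y => by
    obtain ⟨x1, c, hx, rfl⟩ := H.exists_elt x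
    obtain ⟨y1, d, hy, rfl⟩ := H.exists_elt y
    obtain ⟨_, e⟩ := H.elt_mul hx hy
    rw [e, (hA _).1, (hA _).2, (hA hx).1, (hA hx).2, (hA hy).1, (hA hy).2]
    exact ⟨rfl, rfl⟩
  let Z' : Subgroup H.U :=
    { carrier := {x | A x = 0}
      one_mem' := by simp [A]
      mul_mem' := fun {x y} (hx : A x = 0) (hy : A y = 0) => by
        show A (x * y) = 0
        rw [(hm x y).1, hx, hy, add_zero]
      inv_mem' := fun {x} (hx : A x = 0) => by
        have := (hm x x⁻¹).1
        rw [mul_inv_cancel, hx, show A (1 : H.U) = 0 by simp [A], zero_add] at this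
        exact this.symm }
  have hfix : ∀ z ∈ Z', K z ^ 2 ^ n = K z := fun z (hz : A z = 0) => by
    obtain ⟨x, c, h0, rfl⟩ := H.exists_elt z
    rw [(hA h0).1] at hz
    rw [(hA h0).2]
    exact H.mem_fixed_iff.1 (by rw [h0, hz, zero_pow (Nat.succ_ne_zero _)])
  have him : ∀ c : QuadraticAlgebra F a 1, c ^ 2 ^ n = c → c.im = 0 := fun c hc' => by
    rw [hmk c, H3.add_pow_q hE, mul_pow, halg, halg, hwq] at hc'
    have : algebraMap F (QuadraticAlgebra F a 1) c.im = algebraMap F _ 0 := by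
      rw [map_zero]; linear_combination hc'
    exact QuadraticAlgebra.algebraMap_inj.1 this
  refine Nonempty.map (fun e => e.trans eS) (nonempty_mulEquiv_of_sq C Z' h.le_center ?_
    (fun x => (⟨v x, u x⟩ : QuadraticAlgebra F a 1)) A ?_ (fun x y => (hm x y).1) ?_ ?_ ?_ ?_
    κ (fun x => (K x).re) hc.fc.mul ?_ hc.fc.inj ?_ hc.fc.surj ?_ ?_)
  · intro z (hz : A z = 0)
    rw [H.mem_center_iff]
    obtain ⟨x, c, h0, rfl⟩ := H.exists_elt z
    exact (H.elt_sq h0).2 ((hA h0).1.symm.trans hz)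
  · intro x y
    rw [hc.u_mul, hc.v_mul]
    rfl
  · intro z
    obtain ⟨x, hu, hv⟩ := hc.surj z.im z.re
    exact ⟨x, by rw [hu, hv]⟩
  · intro z
    obtain ⟨c, hc'⟩ := H.exists_fibre z
    exact ⟨H.elt z c hc', (hA hc').1⟩
  · intro x
    rw [← hc.ker]
    constructor
    · intro e
      exact ⟨congrArg QuadraticAlgebra.im e, congrArg QuadraticAlgebra.re e⟩
    · rintro ⟨e1, e2⟩
      rw [e1, e2]
      rfl
  · intro x
    exact Iff.rfl
  · intro z (hz : A z = 0) y _
    show (K (z * y)).re = _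
    rw [(hm z y).2, hz, H.zero_q, zero_mul, add_zero, QuadraticAlgebra.re_add]
  · intro z hz h0
    obtain ⟨x, c, hxc, rfl⟩ := H.exists_elt z
    have h1 := him _ (hfix _ hz)
    rw [(hA hxc).2] at h1
    change (K (H.elt x c hxc)).re = 0 at h0
    rw [(hA hxc).2] at h0
    exact H.elt_eq_one.2 ⟨(hA hxc).1.symm.trans hz, QuadraticAlgebra.ext h0 h1⟩
  · intro t
    have h0 : algebraMap F (QuadraticAlgebra F a 1) t + algebraMap F _ t ^ 2 ^ n =
        (0 : QuadraticAlgebra F a 1) ^ (2 ^ n + 1) := by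
      rw [zero_pow (Nat.succ_ne_zero _)]; exact H.mem_fixed_iff.2 (halg t)
    exact ⟨H.elt 0 _ h0, (hA h0).1, by show (K (H.elt 0 _ h0)).re = t; rw [(hA h0).2]; simp⟩
  · intro x x' e
    refine ⟨hc.sq_mem x, ?_, ?_⟩
    · show A (x' * x') = 0
      rw [(hm _ _).1, H.add_self]
    · show κ (x * x) = (K (x' * x')).re
      rw [(hm _ _).2, H.add_self, zero_add, ← pow_succ, hnorm, ← e, hc.sq,
        QuadraticAlgebra.algebraMap_re]
      ring

/-- The nonabelian groups satisfying `Hyp` are Sylow 2-subgroups of `PSU₃(q)` or `PSL₃(q)`. -/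
theorem Hyp.classify (h : Hyp α ρ C q) (hna : ¬ IsMulCommutative Q) {n : ℕ} (hqn : q = 2 ^ n) :
    (∃ (E : Type) (_ : Field E) (_ : Fintype E), Fintype.card E = q ^ 2 ∧
      ∀ S : Sylow 2 (Cfsg.PSU 3 E q), Nonempty (Q ≃* (S : Subgroup (Cfsg.PSU 3 E q)))) ∨
    (∃ (E : Type) (_ : Field E) (_ : Fintype E), Fintype.card E = q ∧
      ∀ S : Sylow 2 (ProjectiveSpecialLinearGroup (Fin 3) E),
        Nonempty (Q ≃* (S : Subgroup (ProjectiveSpecialLinearGroup (Fin 3) E)))) := by
  have hn : 1 ≤ n := by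
    rcases Nat.eq_zero_or_pos n with rfl | h0
    · have := h.four; rw [hqn, pow_zero] at this; omega
    · exact h0
  obtain ⟨F, _, _, _, g, κ, u, v, a, hc, hF⟩ := exists_coord h hna
  by_cases hr : ∃ r : F, r ^ 2 + r + a = 0
  · obtain ⟨r, hr⟩ := hr
    obtain ⟨e⟩ := nonempty_equiv_of_root h hc r hr
    refine Or.inr ⟨F, inferInstance, inferInstance, hF, fun S => ?_⟩
    obtain ⟨e'⟩ := nonempty_equiv_UT hn (hF.trans hqn) S
    exact ⟨e.trans e'⟩
  · push Not at hr
    exact Or.inl (exists_unitary_of_no_root h hc hF hn hqn hr)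

end Cfsg.Agent.H53.Singer
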