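import Cfsg.Agent.H53.SingerField
import Cfsg.Agent.H50.InvolutionCAField

/-!
# A 2-group with an involutive automorphism whose fixed points carry a Singer cycle

`Hyp α ρ C q`: `α` is an involution commuting with `ρ`, `C = C_Q(α)` is elementary abelian of
order `q` and `⟨ρ⟩` is transitive on its nonidentity elements, `ρ ^ (q - 1) = 1`.
If `Q` is nonabelian then `Q / C ≅ F × F` and the squaring map is a quadratic form
`a u² + uv + v²` with values in `C ≅ F` (`exists_coord`).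
-/

set_option autoImplicit false
set_option linter.style.haveILetI false
set_option linter.unusedSectionVars false
open Subgroup
open scoped commutatorElement

namespace Cfsg.Agent.H53.Singer

universe u

variable {Q : Type u} [Group Q]

/-- The standing hypotheses. -/
structure Hyp (α ρ : MulAut Q) (C : Subgroup Q) (q : ℕ) : Prop where
  isP : IsPGroup 2 Q
  fix : ∀ x, x ∈ C ↔ α x = x
  invol : ∀ x, α (α x) = x
  comm : ∀ x, α (ρ x) = ρ (α x)
  elem : ∀ z ∈ C, z * z = 1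
  card : Nat.card C = q
  four : 4 ≤ q
  period : ∀ x, (ρ ^ (q - 1)) x = x
  trans : ∀ x ∈ C, ∀ y ∈ C, x ≠ 1 → y ≠ 1 → ∃ k : ℕ, (ρ ^ k) x = y

theorem pow_succ_apply (ρ : MulAut Q) (k : ℕ) (x : Q) : (ρ ^ (k + 1)) x = ρ ((ρ ^ k) x) := by
  rw [pow_succ', MulAut.mul_apply]

theorem pow_mem_of_inv {ρ : MulAut Q} {N : Subgroup Q} (hN : ∀ x ∈ N, ρ x ∈ N) (k : ℕ) {x : Q}
    (hx : x ∈ N) : (ρ ^ k) x ∈ N := by
  induction k with
  | zero => simpa
  | succ k ih => rw [pow_succ_apply]; exact hN _ ih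

theorem comm_mul_left_of_central {x y z : Q} (h : ⁅y, z⁆ ∈ center Q) :
    ⁅x * y, z⁆ = ⁅x, z⁆ * ⁅y, z⁆ := by
  calc ⁅x * y, z⁆ = x * ⁅y, z⁆ * x⁻¹ * ⁅x, z⁆ := by simp [commutatorElement_def, mul_assoc]
    _ = _ := by rw [mem_center_iff.mp h x, mul_inv_cancel_right, ← mem_center_iff.mp h ⁅x, z⁆]

theorem comm_mul_right_of_central {x y z : Q} (h : ⁅x, z⁆ ∈ center Q) :
    ⁅x, y * z⁆ = ⁅x, y⁆ * ⁅x, z⁆ := by
  calc ⁅x, y * z⁆ = ⁅x, y⁆ * (y * ⁅x, z⁆ * y⁻¹) := by simp [commutatorElement_def, mul_assoc]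
    _ = _ := by rw [mem_center_iff.mp h y, mul_inv_cancel_right]

theorem eq_one_of_central {x y : Q} (h : x ∈ center Q) : ⁅x, y⁆ = 1 ∧ ⁅y, x⁆ = 1 :=
  ⟨commutatorElement_eq_one_iff_mul_comm.mpr (mem_center_iff.mp h y).symm,
    commutatorElement_eq_one_iff_mul_comm.mpr (mem_center_iff.mp h y)⟩

/-- The displacement `x⁻¹ α(x)`. -/
def delta (α : MulAut Q) (x : Q) : Q := x⁻¹ * α x

theorem delta_mul (α : MulAut Q) (x y : Q) :
    delta α (x * y) = y⁻¹ * delta α x * y * delta α y := by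
  simp [delta, mul_assoc]

namespace Hyp

variable [Finite Q] {α ρ : MulAut Q} {C : Subgroup Q} {q : ℕ} (h : Hyp α ρ C q)
include h

theorem rho_mem {z : Q} (hz : z ∈ C) : ρ z ∈ C := by
  rw [h.fix, h.comm, (h.fix z).mp hz]

theorem alpha_mem {z : Q} (hz : z ∈ C) : α z ∈ C := by rw [(h.fix z).mp hz]; exact hz

theorem inv_eq {z : Q} (hz : z ∈ C) : z⁻¹ = z := inv_eq_of_mul_eq_one_right (h.elem z hz)

theorem exists_ne_one : ∃ z ∈ C, z ≠ 1 := by
  by_contra hno
  push Not at hno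
  have := h.card
  rw [show C = ⊥ from (eq_bot_iff_forall C).mpr hno, card_bot] at this
  have := h.four
  omega

theorem odd_pred : Odd (q - 1) := by
  haveI : Fact (Nat.Prime 2) := ⟨Nat.prime_two⟩
  obtain ⟨k, hk⟩ := IsPGroup.iff_card.mp (h.isP.to_subgroup C)
  rw [h.card] at hk
  have := h.four
  have hk0 : k ≠ 0 := fun h0 => by rw [h0, pow_zero] at hk; omega
  exact Nat.Even.sub_odd (by omega) (hk ▸ (Nat.even_pow.mpr ⟨even_two, hk0⟩)) odd_one

theorem C_le {N : Subgroup Q} (hN : ∀ x ∈ N, ρ x ∈ N) {z : Q} (hz : z ∈ C) (hzN : z ∈ N)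
    (hz1 : z ≠ 1) : C ≤ N := by
  intro y hy
  by_cases hy1 : y = 1
  · rw [hy1]; exact one_mem N
  · obtain ⟨k, rfl⟩ := h.trans z hz y hy hz1 hy1
    exact pow_mem_of_inv hN k hzN

theorem exists_fixed {N : Subgroup Q} (hN : ∀ x ∈ N, α x ∈ N) (hne : N ≠ ⊥) :
    ∃ z ∈ N, z ∈ C ∧ z ≠ 1 := by
  classical
  haveI : Fact (Nat.Prime 2) := ⟨Nat.prime_two⟩
  haveI := Fintype.ofFinite N
  let σ : Equiv.Perm N :=
    { toFun := fun x => ⟨α x, hN x x.2⟩
      invFun := fun x => ⟨α x, hN x x.2⟩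
      left_inv := fun x => Subtype.ext (h.invol x)
      right_inv := fun x => Subtype.ext (h.invol x) }
  have hdvd : 2 ∣ Fintype.card N := by
    rw [← Nat.card_eq_fintype_card]
    exact ((h.isP.to_subgroup N).card_eq_or_dvd).resolve_left fun hc => hne (card_eq_one.mp hc)
  obtain ⟨b, hb, hb1⟩ := Equiv.Perm.exists_fixed_point_of_prime' (p := 2) (n := 1) hdvd
    (σ := σ) (Equiv.ext fun x => by
      rw [pow_one, pow_two]; exact Subtype.ext (h.invol x))
    (a := (1 : N)) (Subtype.ext (map_one α))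
  exact ⟨b, b.2, (h.fix _).mpr (congrArg Subtype.val hb), fun e => hb1 (Subtype.ext e)⟩

theorem le_center : C ≤ center Q := by
  haveI : Fact (Nat.Prime 2) := ⟨Nat.prime_two⟩
  haveI : Nontrivial Q := by
    obtain ⟨z, -, hz1⟩ := h.exists_ne_one
    exact ⟨⟨z, 1, hz1⟩⟩
  haveI := h.isP.center_nontrivial
  have hchar : ∀ φ : MulAut Q, ∀ x ∈ center Q, φ x ∈ center Q := fun φ x hx =>
    mem_center_iff.mpr fun g => by
      obtain ⟨g, rfl⟩ := φ.surjective g
      rw [← map_mul, mem_center_iff.mp hx g, map_mul]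
  obtain ⟨z, hz, hzC, hz1⟩ := h.exists_fixed (hchar α) ((nontrivial_iff_ne_bot _).mp inferInstance)
  exact h.C_le (hchar ρ) hzC hz hz1

theorem normal : C.Normal :=
  ⟨fun z hz g => by
    rw [mem_center_iff.mp (h.le_center hz) g, mul_inv_cancel_right]
    exact hz⟩

theorem econst {z : Q} (hz : z ∈ C) (g : Q) : g * z = z * g :=
  mem_center_iff.mp (h.le_center hz) g

theorem delta_rho (x : Q) : delta α (ρ x) = ρ (delta α x) := by
  simp [delta, h.comm]

theorem delta_rho_pow (k : ℕ) (x : Q) : delta α ((ρ ^ k) x) = (ρ ^ k) (delta α x) := by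
  induction k with
  | zero => simp
  | succ k ih => rw [pow_succ_apply, pow_succ_apply, h.delta_rho, ih]

theorem delta_mul_of_mem {x y : Q} (hx : delta α x ∈ C) :
    delta α (x * y) = delta α x * delta α y := by
  rw [delta_mul, h.econst hx y⁻¹, mul_assoc _ y⁻¹ y, inv_mul_cancel, mul_one]

theorem delta_eq_one {x : Q} : delta α x = 1 ↔ x ∈ C := by
  rw [h.fix, delta, inv_mul_eq_one, eq_comm]

/-- The preimage of the fixed points on `Q / C`. -/
def npre : Subgroup Q where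
  carrier := {x | delta α x ∈ C}
  one_mem' := by simp [delta, one_mem]
  mul_mem' := fun {x y} hx hy => by
    show delta α (x * y) ∈ C
    rw [h.delta_mul_of_mem hx]
    exact mul_mem hx hy
  inv_mem' := fun {x} hx => by
    show delta α x⁻¹ ∈ C
    have e : delta α x⁻¹ = x * (delta α x)⁻¹ * x⁻¹ := by simp [delta, mul_assoc]
    rw [e, h.econst (inv_mem hx) x, mul_inv_cancel_right]
    exact inv_mem hx

theorem mem_npre {x : Q} : x ∈ h.npre ↔ delta α x ∈ C := Iff.rfl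

theorem C_le_npre : C ≤ h.npre := fun x hx => by
  rw [h.mem_npre, h.delta_eq_one.mpr hx]; exact one_mem C

theorem npre_rho {x : Q} (hx : x ∈ h.npre) : ρ x ∈ h.npre := by
  rw [h.mem_npre, h.delta_rho]; exact h.rho_mem hx

theorem npre_sq {x : Q} (hx : x ∈ h.npre) : x * x ∈ C := by
  rw [← h.delta_eq_one, h.delta_mul_of_mem hx, h.elem _ hx]

/-- The image of `δ` on `npre` is `C` as soon as `npre > C`. -/
theorem exists_delta_eq {x₀ : Q} (hx₀ : x₀ ∈ h.npre) (hx₀C : x₀ ∉ C) {z : Q} (hz : z ∈ C) :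
    ∃ x ∈ h.npre, delta α x = z := by
  rcases eq_or_ne z 1 with rfl | hz1
  · exact ⟨1, one_mem _, by simp [delta]⟩
  · obtain ⟨k, rfl⟩ := h.trans _ hx₀ z hz (fun e => hx₀C (h.delta_eq_one.mp e)) hz1
    exact ⟨(ρ ^ k) x₀, pow_mem_of_inv (fun x hx => h.npre_rho hx) k hx₀, h.delta_rho_pow k x₀⟩

end Hyp

/-- Coordinates on `C`: `κ` transports it to the field, `ρ` becoming multiplication by `g ^ 2`. -/
structure FCoord {F : Type} [Field F] (α ρ : MulAut Q) (C : Subgroup Q) (g : F) (κ : Q → F) :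
    Prop where
  mul : ∀ z ∈ C, ∀ z' ∈ C, κ (z * z') = κ z + κ z'
  inj : ∀ z ∈ C, κ z = 0 → z = 1
  surj : ∀ c : F, ∃ z ∈ C, κ z = c
  rho : ∀ z ∈ C, κ (ρ z) = g ^ 2 * κ z
  pow_surj : ∀ t : F, t ≠ 0 → ∃ j : ℕ, g ^ j = t

/-- Coordinates on `Q / C` with the squaring map. -/
structure Coord {F : Type} [Field F] (α ρ : MulAut Q) (C : Subgroup Q) (g : F) (κ : Q → F)
    (u v : Q → F) (a : F) : Prop where
  fc : FCoord α ρ C g κ
  u_mul : ∀ x y, u (x * y) = u x + u y
  v_mul : ∀ x y, v (x * y) = v x + v y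
  surj : ∀ r s : F, ∃ x, u x = r ∧ v x = s
  ker : ∀ x, (u x = 0 ∧ v x = 0) ↔ x ∈ C
  u_rho : ∀ x, u (ρ x) = g * u x
  v_rho : ∀ x, v (ρ x) = g * v x
  u_alpha : ∀ x, u (α x) = u x
  v_alpha : ∀ x, v (α x) = v x + u x
  sq_mem : ∀ x, x * x ∈ C
  comm_mem : ∀ x y : Q, ⁅x, y⁆ ∈ C
  sq : ∀ x, κ (x * x) = a * u x ^ 2 + u x * v x + v x ^ 2
  comm : ∀ x y : Q, κ ⁅x, y⁆ = u x * v y + u y * v x

/-- An involution on a nontrivial finite 2-group fixes a nonidentity element. -/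
theorem exists_fixed_ne_one {G : Type*} [Group G] [Finite G] (hG : IsPGroup 2 G)
    (φ : MulAut G) (hφ : ∀ x, φ (φ x) = x) (hne : Nontrivial G) : ∃ z, φ z = z ∧ z ≠ 1 := by
  classical
  haveI : Fact (Nat.Prime 2) := ⟨Nat.prime_two⟩
  haveI := Fintype.ofFinite G
  have hdvd : 2 ∣ Fintype.card G := by
    rw [← Nat.card_eq_fintype_card]
    exact hG.card_eq_or_dvd.resolve_left fun hc => by
      have := (Finite.one_lt_card_iff_nontrivial (α := G)).mpr hne
      omega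
  obtain ⟨b, hb, hb1⟩ := Equiv.Perm.exists_fixed_point_of_prime' (p := 2) (n := 1) hdvd
    (σ := φ.toEquiv) (Equiv.ext fun x => by rw [pow_one, pow_two]; exact hφ x)
    (a := (1 : G)) (map_one φ)
  exact ⟨b, hb, hb1⟩

namespace FCoord

variable {F : Type} [Field F] {α ρ : MulAut Q} {C : Subgroup Q} {g : F} {κ : Q → F}
  (fc : FCoord α ρ C g κ)
include fc

theorem one : κ 1 = 0 := by
  have := fc.mul 1 (one_mem C) 1 (one_mem C)
  rw [one_mul] at this
  exact left_eq_add.mp this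

theorem ext {z z' : Q} (hz : z ∈ C) (hz' : z' ∈ C) (h : κ z = κ z') : z = z' := by
  have h1 := fc.mul z⁻¹ (inv_mem hz) z' hz'
  have h2 := fc.mul z⁻¹ (inv_mem hz) z hz
  rw [inv_mul_cancel, fc.one, h, ← h1] at h2
  exact inv_mul_eq_one.mp (fc.inj _ (mul_mem (inv_mem hz) hz') h2.symm)

theorem rho_pow (hρ : ∀ z ∈ C, ρ z ∈ C) (j : ℕ) {z : Q} (hz : z ∈ C) :
    κ ((ρ ^ j) z) = (g ^ j) ^ 2 * κ z := by
  induction j with
  | zero => simp
  | succ j ih => rw [pow_succ_apply, fc.rho _ (pow_mem_of_inv hρ j hz), ih]; ring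

theorem weight_pow {f : Q → F} (hf : ∀ x, f (ρ x) = g * f x) (j : ℕ) (x : Q) :
    f ((ρ ^ j) x) = g ^ j * f x := by
  induction j with
  | zero => simp
  | succ j ih => rw [pow_succ_apply, hf, ih]; ring

/-- An equivariant nonzero additive map onto `F` is surjective. -/
theorem surj_of_ne {f : Q → F} (hmul : ∀ x y, f (x * y) = f x + f y)
    (hf : ∀ x, f (ρ x) = g * f x) {x₀ : Q} (hx₀ : f x₀ ≠ 0) (r : F) : ∃ x, f x = r := by
  rcases eq_or_ne r 0 with rfl | hr
  · have h1 := hmul 1 1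
    rw [one_mul] at h1
    exact ⟨1, left_eq_add.mp h1⟩
  · obtain ⟨j, hj⟩ := fc.pow_surj (r / f x₀) (div_ne_zero hr hx₀)
    exact ⟨(ρ ^ j) x₀, by rw [fc.weight_pow hf, hj, div_mul_cancel₀ r hx₀]⟩

end FCoord

namespace Hyp

variable [Finite Q] {α ρ : MulAut Q} {C : Subgroup Q} {q : ℕ} (h : Hyp α ρ C q)
include h

/-- The field of a Singer cycle. -/
theorem exists_fcoord :
    ∃ (F : Type) (_ : Field F) (_ : Fintype F) (_ : CharP F 2) (g : F) (κ : Q → F),
      FCoord α ρ C g κ ∧ Fintype.card F = q := by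
  classical
  haveI : IsMulCommutative C :=
    ⟨⟨fun a b => Subtype.ext (h.econst b.2 a)⟩⟩
  letI : CommGroup C := { (inferInstance : Group C) with mul_comm := mul_comm' }
  obtain ⟨z₀, hz₀, hz₀1⟩ := h.exists_ne_one
  let φ : ULift.{u} ℕ → AddMonoid.End (Additive C) := fun k => MonoidHom.toAdditive
    { toFun := fun z => ⟨(ρ ^ k.down) z, pow_mem_of_inv (fun x hx => h.rho_mem hx) _ z.2⟩
      map_one' := Subtype.ext (map_one _)
      map_mul' := fun a b => Subtype.ext (map_mul _ _ _) }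
  obtain ⟨F, instF, e, -, hφ, hψ⟩ := H50.exists_field_of_transitive
    (Additive.ofMul (⟨z₀, hz₀⟩ : C))
    (fun e => hz₀1 (congrArg (fun z : Additive C => ((z.toMul : C) : Q)) e)) φ
    ⟨⟨0⟩, AddMonoidHom.ext fun z => Subtype.ext (by simp [φ]; rfl)⟩
    (fun i j => AddMonoidHom.ext fun z => Subtype.ext (by
      show (ρ ^ i.down) ((ρ ^ j.down) (z.toMul : Q)) = (ρ ^ j.down) ((ρ ^ i.down) (z.toMul : Q))
      rw [← MulAut.mul_apply, ← MulAut.mul_apply, ← pow_add, ← pow_add, add_comm]))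
    (fun i z hz => by
      have hz' : (ρ ^ i.down) (z.toMul : Q) = 1 :=
        congrArg (fun z : Additive C => ((z.toMul : C) : Q)) hz
      exact Additive.toMul.injective (Subtype.ext ((ρ ^ i.down).injective
        (hz'.trans (map_one _).symm))))
    (fun z hz => by
      have hz' : (z.toMul : Q) ≠ 1 := fun e => hz (Additive.toMul.injective (Subtype.ext e))
      obtain ⟨k, hk⟩ := h.trans z₀ hz₀ _ z.toMul.2 hz₀1 hz'
      exact ⟨⟨k⟩, Additive.toMul.injective (Subtype.ext hk)⟩)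
  haveI : Finite F := Finite.of_equiv _ e.symm.toEquiv
  letI := Fintype.ofFinite F
  have h2 : (2 : F) = 0 := e.injective (by
    rw [← one_add_one_eq_two, map_add, map_zero]
    exact Additive.toMul.injective (Subtype.ext (h.elem _ (e 1).toMul.2)))
  haveI : CharP F 2 := CharTwo.of_one_ne_zero_of_two_eq_zero one_ne_zero h2
  obtain ⟨c, hc, hc'⟩ := hφ ⟨1⟩
  let κ : Q → F := fun x => if hx : x ∈ C then e.symm (Additive.ofMul ⟨x, hx⟩) else 0
  have hκ : ∀ (x : Q) (hx : x ∈ C), κ x = e.symm (Additive.ofMul ⟨x, hx⟩) := fun x hx => dif_pos hx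
  refine ⟨F, instF, inferInstance, inferInstance, sqrt₂ c, κ,
    ⟨fun z hz z' hz' => ?_, fun z hz h0 => ?_, fun r => ?_, fun z hz => ?_, fun t ht => ?_⟩, ?_⟩
  · rw [hκ z hz, hκ z' hz', hκ _ (mul_mem hz hz'), ← map_add]
    rfl
  · rw [hκ z hz] at h0
    exact congrArg (fun z : Additive C => ((z.toMul : C) : Q))
      (e.symm.injective (h0.trans (map_zero _).symm))
  · exact ⟨((e r).toMul : C), (e r).toMul.2, by rw [hκ _ (e r).toMul.2]; exact e.symm_apply_apply r⟩
  · rw [sqrt₂_sq, hκ z hz, hκ _ (h.rho_mem hz)]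
    apply e.injective
    rw [e.apply_symm_apply, ← hc', e.apply_symm_apply]
    rfl
  · obtain ⟨k, hk⟩ := hψ (t ^ 2) (pow_ne_zero 2 ht)
    refine ⟨k.down, ?_⟩
    have hpow : ∀ j : ℕ, ∀ b, φ ⟨j⟩ (e b) = e (c ^ j * b) := by
      intro j
      induction j with
      | zero => intro b; rw [pow_zero, one_mul]; rfl
      | succ j ih =>
        intro b
        rw [pow_succ', mul_assoc, ← hc', ← ih]
        exact Additive.toMul.injective (Subtype.ext (pow_succ_apply ρ j _))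
    have h3 := e.injective ((hpow k.down 1).symm.trans (hk 1))
    rw [mul_one, mul_one] at h3
    exact sqrt₂_injective (F := F) (by
      rw [← sqrt₂_of_sq (sqrt₂ c ^ k.down)] at *
      rw [← pow_mul, mul_comm, pow_mul, sqrt₂_sq, h3, sqrt₂_of_sq])
  · rw [← Nat.card_eq_fintype_card, Nat.card_congr e.toEquiv]
    exact h.card

variable {F : Type} [Field F] [Finite F] [CharP F 2] {g : F} {κ : Q → F}

theorem g_period (fc : FCoord α ρ C g κ) : g ^ (q - 1) = 1 := by
  obtain ⟨z, hz, hz1⟩ := fc.surj 1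
  have h1 := fc.rho_pow (fun z hz => h.rho_mem hz) (q - 1) hz
  rw [h.period, hz1, mul_one] at h1
  rw [← sqrt₂_of_sq (g ^ (q - 1)), ← h1]
  exact map_one _

/-- A group with a central-kernel equivariant map onto `F` is commutative. -/
theorem comm_of_line (fc : FCoord α ρ C g κ) (hcomm : ∀ x y : Q, ⁅x, y⁆ ∈ C) (ν : Q → F)
    (hν : ∀ x y, ν (x * y) = ν x + ν y) (hνρ : ∀ x, ν (ρ x) = g * ν x)
    (hker : ∀ x, ν x = 0 → ∀ y : Q, ⁅x, y⁆ = 1) (x y : Q) : x * y = y * x := by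
  refine commutatorElement_eq_one_iff_mul_comm.mp ?_
  by_cases hne : ∀ x, ν x = 0
  · exact hker x (hne x) y
  push Not at hne
  obtain ⟨x₀, hx₀⟩ := hne
  choose X hX using fc.surj_of_ne hν hνρ hx₀
  have hcl : ∀ a b c : Q, κ ⁅a * b, c⁆ = κ ⁅a, c⁆ + κ ⁅b, c⁆ := fun a b c => by
    rw [comm_mul_left_of_central (h.le_center (hcomm b c)), fc.mul _ (hcomm a c) _ (hcomm b c)]
  have hcr : ∀ a b c : Q, κ ⁅a, b * c⁆ = κ ⁅a, b⁆ + κ ⁅a, c⁆ := fun a b c => by
    rw [comm_mul_right_of_central (h.le_center (hcomm a c)), fc.mul _ (hcomm a b) _ (hcomm a c)]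
  have hsame : ∀ a a' b b', ν a = ν a' → ν b = ν b' → κ ⁅a, b⁆ = κ ⁅a', b'⁆ := by
    intro a a' b b' ha hb
    have hνi : ∀ w w', ν w = ν w' → ν (w'⁻¹ * w) = 0 := fun w w' e => by
      have := hν w' (w'⁻¹ * w)
      rw [mul_inv_cancel_left, e] at this
      exact left_eq_add.mp this
    have e1 := hcl a' (a'⁻¹ * a) b
    have e2 := hcr a' b' (b'⁻¹ * b)
    rw [mul_inv_cancel_left, hker _ (hνi a a' ha) b, fc.one, add_zero] at e1
    rw [mul_inv_cancel_left, ← commutatorElement_inv (b'⁻¹ * b) a', hker _ (hνi b b' hb) a',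
      inv_one, fc.one, add_zero] at e2
    rw [e1, e2]
  have hM := weight_two_alternating (fun r s => κ ⁅X r, X s⁆)
    (fun r r' s => by
      rw [← hcl]; exact hsame _ _ _ _ (by rw [hν, hX, hX, hX]) rfl)
    (fun r s s' => by
      rw [← hcr]; exact hsame _ _ _ _ rfl (by rw [hν, hX, hX, hX]))
    (fun t ht r s => by
      obtain ⟨j, rfl⟩ := fc.pow_surj t ht
      rw [← fc.rho_pow (fun z hz => h.rho_mem hz) j (hcomm _ _), map_commutatorElement]
      exact hsame _ _ _ _ (by rw [fc.weight_pow hνρ, hX, hX])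
        (by rw [fc.weight_pow hνρ, hX, hX]))
    (fun r => by rw [commutatorElement_self, fc.one]) (ν x) (ν y)
  exact fc.inj _ (hcomm x y) ((hsame x (X (ν x)) y (X (ν y)) (hX _).symm (hX _).symm).trans hM)

/-- The coordinate of `δ` on `npre`. -/
theorem nu_mul (fc : FCoord α ρ C g κ) {x y : Q} (hx : x ∈ h.npre) (hy : y ∈ h.npre) :
    sqrt₂ (κ (delta α (x * y))) = sqrt₂ (κ (delta α x)) + sqrt₂ (κ (delta α y)) := by
  rw [h.delta_mul_of_mem hx, fc.mul _ hx _ hy, sqrt₂_add]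

theorem nu_rho (fc : FCoord α ρ C g κ) {x : Q} (hx : x ∈ h.npre) :
    sqrt₂ (κ (delta α (ρ x))) = g * sqrt₂ (κ (delta α x)) := by
  rw [h.delta_rho, fc.rho _ hx, sqrt₂_mul, sqrt₂_of_sq]

theorem nu_eq_zero (fc : FCoord α ρ C g κ) {x : Q} (hx : x ∈ h.npre) :
    sqrt₂ (κ (delta α x)) = 0 ↔ x ∈ C := by
  rw [← h.delta_eq_one]
  constructor
  · intro h0
    exact fc.inj _ hx (sqrt₂_injective (h0.trans sqrt₂_zero.symm))
  · intro h1
    rw [h1, fc.one, sqrt₂_zero]

/-- If `Q / C` is abelian and `Q` is not, then `Q / C` has exponent two. -/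
theorem sq_mem_of_comm (fc : FCoord α ρ C g κ) (hcomm : ∀ x y : Q, ⁅x, y⁆ ∈ C)
    (hna : ¬ IsMulCommutative Q) (x : Q) : x * x ∈ C := by
  classical
  haveI := h.normal
  haveI hWc : IsMulCommutative (Q ⧸ C) := ⟨⟨fun a b => by
    induction a using QuotientGroup.induction_on with
    | _ a =>
      induction b using QuotientGroup.induction_on with
      | _ b =>
        rw [← QuotientGroup.mk_mul, ← QuotientGroup.mk_mul, QuotientGroup.eq]
        have := hcomm b⁻¹ a⁻¹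
        simpa [commutatorElement_def, mul_assoc] using this⟩⟩
  letI : CommGroup (Q ⧸ C) :=
    { (inferInstance : Group (Q ⧸ C)) with mul_comm := mul_comm' }
  by_contra hx
  let sq : (Q ⧸ C) →* (Q ⧸ C) := powMonoidHom 2
  set P : Subgroup Q := sq.range.comap (QuotientGroup.mk' C) with hP
  have hPmem : ∀ y : Q, y * y ∈ P := fun y => ⟨QuotientGroup.mk' C y, by simp [sq, pow_two]⟩
  have hCP : C ≤ P := fun z hz => by
    show QuotientGroup.mk' C z ∈ sq.range
    rw [QuotientGroup.mk'_apply, (QuotientGroup.eq_one_iff z).mpr hz]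
    exact one_mem _
  have hPcomm : ∀ s ∈ P, ∀ y : Q, ⁅s, y⁆ = 1 := by
    rintro s ⟨w, hw⟩ y
    obtain ⟨w, rfl⟩ := QuotientGroup.mk_surjective w
    have hs : (w * w)⁻¹ * s ∈ C := by
      rw [← QuotientGroup.eq, QuotientGroup.mk_mul, ← pow_two]
      exact hw
    rw [show s = w * w * ((w * w)⁻¹ * s) by group,
      comm_mul_left_of_central (by rw [(eq_one_of_central (h.le_center hs)).1]; exact one_mem _),
      (eq_one_of_central (h.le_center hs)).1, mul_one,
      comm_mul_left_of_central (h.le_center (hcomm w y)), h.elem _ (hcomm w y)]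
  -- `x α(x)` lies in `npre`
  have hxa : ∀ y : Q, y * α y ∈ h.npre := fun y => by
    rw [h.mem_npre]
    have e : delta α (y * α y) = ⁅(α y)⁻¹, y⁻¹⁆ := by
      simp [delta, h.invol, commutatorElement_def, mul_assoc]
    rw [e]
    exact hcomm _ _
  -- the preimage of the fixed points lies in `P`
  have hNP : h.npre ≤ P := by
    obtain ⟨s, hs, hsC, hss⟩ : ∃ s ∈ P, s ∉ C ∧ s * s ∈ C := by
      haveI : Fact (Nat.Prime 2) := ⟨Nat.prime_two⟩
      have hne : sq.range ≠ ⊥ := fun h0 => hx (by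
        have : QuotientGroup.mk' C (x * x) ∈ sq.range := hPmem x
        rw [h0, mem_bot, QuotientGroup.mk'_apply, QuotientGroup.eq_one_iff] at this
        exact this)
      have hdvd : 2 ∣ Nat.card sq.range :=
        (((h.isP.to_quotient C).to_subgroup sq.range).card_eq_or_dvd).resolve_left
          fun hc => hne (card_eq_one.mp hc)
      obtain ⟨⟨w, hw⟩, hwo⟩ := exists_prime_orderOf_dvd_card' 2 hdvd
      rw [orderOf_mk, orderOf_eq_prime_iff] at hwo
      obtain ⟨s, rfl⟩ := QuotientGroup.mk_surjective w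
      refine ⟨s, hw, fun hsC => hwo.2 ((QuotientGroup.eq_one_iff s).mpr hsC), ?_⟩
      rw [← QuotientGroup.eq_one_iff, QuotientGroup.mk_mul, ← pow_two]
      exact hwo.1
    have hsN : s ∈ h.npre := by
      obtain ⟨w, hw⟩ := hs
      obtain ⟨w, rfl⟩ := QuotientGroup.mk_surjective w
      have e0 : s⁻¹ * (w * w) ∈ C := by
        rw [← QuotientGroup.eq, QuotientGroup.mk_mul, ← pow_two]
        exact hw.symm
      have ha : α (s⁻¹ * (w * w)) ∈ C := h.alpha_mem e0
      rw [map_mul, map_inv, map_mul] at ha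
      have hn := h.npre_sq (hxa w)
      have hw' : (QuotientGroup.mk' C) s = (QuotientGroup.mk' C w) ^ 2 := by
        rw [← map_pow, pow_two]
        exact QuotientGroup.eq.mpr e0
      have hm : (QuotientGroup.mk' C) (α s) = (QuotientGroup.mk' C (α w)) ^ 2 := by
        rw [← map_pow, pow_two]
        exact QuotientGroup.eq.mpr ha
      have hn' : (QuotientGroup.mk' C w) ^ 2 * (QuotientGroup.mk' C (α w)) ^ 2 = 1 := by
        rw [← mul_pow, ← map_mul, ← map_pow, pow_two, QuotientGroup.mk'_apply,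
          QuotientGroup.eq_one_iff]
        exact hn
      have hs2 : ((QuotientGroup.mk' C w) ^ 2) * ((QuotientGroup.mk' C w) ^ 2) = 1 := by
        rw [← hw', ← map_mul, QuotientGroup.mk'_apply, QuotientGroup.eq_one_iff]
        exact hss
      rw [h.mem_npre, delta, ← QuotientGroup.eq]
      exact hw'.trans ((mul_left_cancel (hs2.trans hn'.symm)).trans hm.symm)
    intro y hy
    by_cases hyC : y ∈ C
    · exact hCP hyC
    -- the values of `δ` on `P ⊓ npre` form an invariant subgroup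
    let S : Subgroup Q :=
      { carrier := {z | ∃ t ∈ P ⊓ h.npre, delta α t = z}
        one_mem' := ⟨1, one_mem _, by simp [delta]⟩
        mul_mem' := by
          rintro _ _ ⟨t, ht, rfl⟩ ⟨t', ht', rfl⟩
          exact ⟨t * t', mul_mem ht ht', h.delta_mul_of_mem ht.2⟩
        inv_mem' := by
          rintro _ ⟨t, ht, rfl⟩
          exact ⟨t, ht, (h.inv_eq ht.2).symm⟩ }
    have hS : ∀ z ∈ S, ρ z ∈ S := by
      rintro _ ⟨t, ⟨htP, htN⟩, rfl⟩
      refine ⟨ρ t, ⟨?_, h.npre_rho htN⟩, h.delta_rho t⟩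
      obtain ⟨w, hw⟩ := htP
      obtain ⟨w, rfl⟩ := QuotientGroup.mk_surjective w
      refine ⟨QuotientGroup.mk' C (ρ w), ?_⟩
      have e0 : (w * w)⁻¹ * t ∈ C := by
        rw [← QuotientGroup.eq, QuotientGroup.mk_mul, ← pow_two]
        exact hw
      have e1 := h.rho_mem e0
      rw [map_mul, map_inv, map_mul] at e1
      show (QuotientGroup.mk' C (ρ w)) ^ 2 = _
      rw [← map_pow, pow_two]
      exact QuotientGroup.eq.mpr e1
    obtain ⟨t, ⟨htP, htN⟩, ht⟩ := h.C_le hS hsN ⟨s, ⟨hs, hsN⟩, rfl⟩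
      (fun e => hsC (h.delta_eq_one.mp e)) (show delta α y ∈ C from hy)
    have : t⁻¹ * y ∈ C := by
      have hm := h.delta_mul_of_mem (x := t) (y := t⁻¹ * y) htN
      rw [mul_inv_cancel_left, ht] at hm
      exact h.delta_eq_one.mp (left_eq_mul.mp hm)
    simpa using mul_mem htP (hCP this)
  have hdP : ∀ y : Q, delta α y ∈ P := fun y => by
    rw [show delta α y = (y * y)⁻¹ * (y * α y) by simp [delta, mul_assoc]]
    exact mul_mem (inv_mem (hPmem y)) (hNP (hxa y))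
  have hdc : ∀ y w : Q, w * delta α y = delta α y * w := fun y w =>
    (commutatorElement_eq_one_iff_mul_comm.mp (hPcomm _ (hdP y) w)).symm
  have hdm : ∀ y w : Q, delta α (y * w) = delta α y * delta α w := fun y w => by
    rw [delta_mul, mul_assoc (w⁻¹), ← hdc y w, ← mul_assoc, inv_mul_cancel, one_mul]
  -- elements squaring into `C` lie in `npre`
  have hΩ : ∀ y : Q, y * y ∈ C → y ∈ h.npre := fun y hy => by
    rw [h.mem_npre, h.fix]
    have h1 : delta α y * delta α y = 1 := by rw [← hdm, h.delta_eq_one]; exact hy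
    have e : α (delta α y) = (delta α y)⁻¹ := by simp [delta, h.invol]
    rw [e, inv_eq_of_mul_eq_one_right h1]
  -- the last power outside `C`
  obtain ⟨e, he, ye, hye⟩ : ∃ e : ℕ, (∀ y : Q, y ^ 2 ^ (e + 1) ∈ C) ∧ ∃ y : Q, y ^ 2 ^ e ∉ C := by
    have hex : ∃ e : ℕ, ∀ y : Q, y ^ 2 ^ e ∈ C := by
      haveI : Fact (Nat.Prime 2) := ⟨Nat.prime_two⟩
      obtain ⟨N, hN⟩ := IsPGroup.iff_card.mp h.isP
      exact ⟨N, fun y => by rw [← hN, pow_card_eq_one']; exact one_mem C⟩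
    have hpos : Nat.find hex ≠ 0 := fun h0 => hx (by
      have := Nat.find_spec hex (x * x)
      rwa [h0, pow_zero, pow_one] at this)
    refine ⟨Nat.find hex - 1, fun y => by
      rw [Nat.sub_add_cancel (Nat.one_le_iff_ne_zero.mpr hpos)]; exact Nat.find_spec hex y, ?_⟩
    have := Nat.find_min hex (show Nat.find hex - 1 < Nat.find hex by omega)
    push Not at this
    exact this
  have hpN : ∀ y : Q, y ^ 2 ^ e ∈ h.npre := fun y => hΩ _ (by
    rw [← pow_add, ← two_mul, ← pow_succ']; exact he y)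
  set ν : Q → F := fun y => sqrt₂ (κ (delta α (y ^ 2 ^ e))) with hνdef
  have hνC : ∀ y w, y⁻¹ * w ∈ C → y ∈ h.npre → w ∈ h.npre →
      sqrt₂ (κ (delta α y)) = sqrt₂ (κ (delta α w)) := fun y w hyw hy hw => by
    have := h.nu_mul fc hy (h.C_le_npre hyw)
    rw [mul_inv_cancel_left, (h.nu_eq_zero fc (h.C_le_npre hyw)).mpr hyw, add_zero] at this
    exact this.symm
  have hνmul : ∀ y w, ν (y * w) = ν y + ν w := fun y w => by
    simp only [hνdef]
    rw [← h.nu_mul fc (hpN y) (hpN w)]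
    refine hνC _ _ ?_ (hpN _) (mul_mem (hpN y) (hpN w))
    rw [← QuotientGroup.eq, QuotientGroup.mk_mul, QuotientGroup.mk_pow, QuotientGroup.mk_pow,
      QuotientGroup.mk_pow, QuotientGroup.mk_mul, mul_pow]
  have hνρ : ∀ y, ν (ρ y) = g * ν y := fun y => by
    simp only [hνdef, ← map_pow]
    exact h.nu_rho fc (hpN y)
  -- `π w = w ^ 2 ^ e` has kernel exactly the squares
  let π : (Q ⧸ C) →* (Q ⧸ C) := powMonoidHom (2 ^ e)
  have hπsq : sq.range ≤ π.ker := by
    rintro _ ⟨w, rfl⟩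
    obtain ⟨w, rfl⟩ := QuotientGroup.mk_surjective w
    show ((w : Q ⧸ C) ^ 2) ^ 2 ^ e = 1
    rw [← pow_mul, ← pow_succ', ← QuotientGroup.mk_pow, QuotientGroup.eq_one_iff]
    exact he w
  have hsqker : sq.ker ≤ h.npre.map (QuotientGroup.mk' C) := fun w hw => by
    obtain ⟨w, rfl⟩ := QuotientGroup.mk_surjective w
    refine ⟨w, hΩ w ?_, rfl⟩
    rw [← QuotientGroup.eq_one_iff, QuotientGroup.mk_mul, ← pow_two]
    exact hw
  have hrange : h.npre.map (QuotientGroup.mk' C) ≤ π.range := by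
    rintro _ ⟨w, hw, rfl⟩
    have hye' : ν ye ≠ 0 := fun h0 => hye ((h.nu_eq_zero fc (hpN ye)).mp h0)
    obtain ⟨y, hy⟩ := fc.surj_of_ne hνmul hνρ hye' (sqrt₂ (κ (delta α w)))
    refine ⟨QuotientGroup.mk' C y, ?_⟩
    show (QuotientGroup.mk' C y) ^ 2 ^ e = _
    rw [← map_pow]
    refine QuotientGroup.eq.mpr ((h.nu_eq_zero fc (mul_mem (inv_mem (hpN y)) hw)).mp ?_)
    have := h.nu_mul fc (hpN y) (mul_mem (inv_mem (hpN y)) hw)
    rw [mul_inv_cancel_left, ← hy] at this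
    exact left_eq_add.mp this
  have heq : sq.range = π.ker := by
    refine eq_of_le_of_card_ge hπsq ?_
    have h1 := card_mul_index sq.ker
    have h2 := card_mul_index π.ker
    rw [index_ker] at h1 h2
    have h3 := card_le_of_le (hsqker.trans hrange)
    by_contra hlt
    push Not at hlt
    have := Nat.mul_lt_mul_of_le_of_lt h3 hlt Nat.card_pos
    rw [mul_comm (Nat.card π.range)] at this
    omega
  refine hna ⟨⟨fun a b => h.comm_of_line fc hcomm ν hνmul hνρ (fun y hy w => hPcomm y ?_ w) a b⟩⟩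
  show QuotientGroup.mk' C y ∈ sq.range
  rw [heq]
  show (QuotientGroup.mk' C y) ^ 2 ^ e = 1
  rw [← map_pow, QuotientGroup.mk'_apply, QuotientGroup.eq_one_iff]
  exact (h.nu_eq_zero fc (hpN y)).mp hy

/-- The coordinates when `Q / C` is abelian. -/
theorem coord_of_comm (fc : FCoord α ρ C g κ) (hcomm : ∀ x y : Q, ⁅x, y⁆ ∈ C)
    (hna : ¬ IsMulCommutative Q) :
    ∃ (κ' : Q → F) (u v : Q → F) (a : F), Coord α ρ C g κ' u v a := by
  classical
  have hsq := h.sq_mem_of_comm fc hcomm hna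
  have hdN : ∀ x : Q, delta α x ∈ h.npre := fun x => by
    have e : delta α (delta α x) = (delta α x * delta α x)⁻¹ := by
      simp [delta, h.invol, mul_assoc]
    rw [h.mem_npre, e]
    exact inv_mem (hsq _)
  set νN : Q → F := fun x => sqrt₂ (κ (delta α x)) with hνN
  have hνC : ∀ {x y : Q}, x ∈ h.npre → x⁻¹ * y ∈ C → νN y = νN x := fun {x y} hx hxy => by
    have := h.nu_mul fc hx (h.C_le_npre hxy)
    rw [mul_inv_cancel_left, (h.nu_eq_zero fc (h.C_le_npre hxy)).mpr hxy, add_zero] at this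
    exact this
  have hν1 : νN 1 = 0 := (h.nu_eq_zero fc (one_mem _)).mpr (one_mem _)
  set u : Q → F := fun x => νN (delta α x) with hu
  have hu_mul : ∀ x y, u (x * y) = u x + u y := fun x y => by
    simp only [hu]
    have e : delta α (x * y) = delta α x * (⁅(delta α x)⁻¹, y⁻¹⁆ * delta α y) := by
      rw [delta_mul]; simp [commutatorElement_def, mul_assoc]
    rw [e]
    simp only [hνN]
    rw [h.nu_mul fc (hdN x) (mul_mem (h.C_le_npre (hcomm _ _)) (hdN y)),
      h.nu_mul fc (h.C_le_npre (hcomm _ _)) (hdN y),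
      (h.nu_eq_zero fc (h.C_le_npre (hcomm _ _))).mpr (hcomm _ _), zero_add]
  have hu_rho : ∀ x, u (ρ x) = g * u x := fun x => by
    simp only [hu, h.delta_rho x]; exact h.nu_rho fc (hdN x)
  have hu_alpha : ∀ x, u (α x) = u x := fun x => by
    simp only [hu]
    rw [show delta α (α x) = (delta α x)⁻¹ by simp [delta, h.invol]]
    refine hνC (hdN x) ?_
    rw [← mul_inv_rev]
    exact inv_mem (hsq _)
  have hu_zero : ∀ x, u x = 0 ↔ x ∈ h.npre := fun x => by
    simp only [hu, hνN, h.nu_eq_zero fc (hdN x), h.mem_npre]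
  obtain ⟨x₀, hx₀⟩ : ∃ x, u x ≠ 0 := by
    by_contra hno
    push Not at hno
    have hall : ∀ x, x ∈ h.npre := fun x => (hu_zero x).mp (hno x)
    exact hna ⟨⟨fun a b => h.comm_of_line fc hcomm νN (fun x y => h.nu_mul fc (hall x) (hall y))
      (fun x => h.nu_rho fc (hall x))
      (fun x hx y => (eq_one_of_central (h.le_center ((h.nu_eq_zero fc (hall x)).mp hx))).1) a b⟩⟩
  -- a complement of the fixed points modulo `C`
  haveI := h.normal
  obtain ⟨K, hCK, hKN, hKsup⟩ : ∃ K : Subgroup Q, C ≤ K ∧ K ⊓ h.npre ≤ C ∧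
      ∀ x : Q, ∃ k ∈ K, ∃ z ∈ h.npre, x = k * z := by
    have hcomm' : ∀ a b : Q ⧸ C, a * b = b * a := fun a b => by
      induction a using QuotientGroup.induction_on with
      | _ a =>
        induction b using QuotientGroup.induction_on with
        | _ b =>
          rw [← QuotientGroup.mk_mul, ← QuotientGroup.mk_mul, QuotientGroup.eq]
          have := hcomm b⁻¹ a⁻¹
          simpa [commutatorElement_def, mul_assoc] using this
    obtain ⟨K, -, hK, hK'⟩ := exists_complement (⊥ : Subgroup (Q ⧸ C))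
      (h.npre.map (QuotientGroup.mk' C))
      (fun w => by
        obtain ⟨w, rfl⟩ := QuotientGroup.mk_surjective w
        rw [mem_bot, ← QuotientGroup.mk_mul, QuotientGroup.eq_one_iff]
        exact hsq w)
      (bot_inf_eq _) (fun w _ => mem_center_iff.mpr fun v => hcomm' v w)
    refine ⟨K.comap (QuotientGroup.mk' C), fun z hz => ?_, fun x hx => ?_, fun x => ?_⟩
    · rw [mem_comap, QuotientGroup.mk'_apply, (QuotientGroup.eq_one_iff z).mpr hz]
      exact one_mem K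
    · exact (QuotientGroup.eq_one_iff x).mp
        (mem_bot.mp (hK.le ⟨hx.1, x, hx.2, rfl⟩))
    · obtain ⟨k, hk, w, ⟨z, hz, rfl⟩, e⟩ := hK' (QuotientGroup.mk' C x)
      refine ⟨x * z⁻¹, ?_, z, hz, by group⟩
      rw [mem_comap, map_mul, map_inv, e, mul_inv_cancel_right]
      exact hk
  choose kp hkp zp hzp hdec using hKsup
  have huniq : ∀ {x k z : Q}, k ∈ K → z ∈ h.npre → x = k * z → νN (zp x) = νN z := by
    intro x k z hk hz e
    refine hνC hz (hKN ⟨?_, h.npre.mul_mem (h.npre.inv_mem hz) (hzp x)⟩)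
    have e1 : z = k⁻¹ * x := by rw [e, inv_mul_cancel_left]
    have e2 : zp x = (kp x)⁻¹ * x := (eq_inv_mul_iff_mul_eq).mpr (hdec x).symm
    rw [e1, e2]
    have : ((k⁻¹ * x)⁻¹ * ((kp x)⁻¹ * x)) = x⁻¹ * (k * (kp x)⁻¹) * x := by group
    rw [this]
    have hc := mul_mem (hCK (hcomm x⁻¹ (k * (kp x)⁻¹))) (mul_mem hk (inv_mem (hkp x)))
    simpa [commutatorElement_def, mul_assoc] using hc
  set r₀ : Q → F := fun x => νN (zp x) with hr₀
  have hr_mul : ∀ x y, r₀ (x * y) = r₀ x + r₀ y := fun x y => by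
    simp only [hr₀]
    rw [← h.nu_mul fc (hzp x) (hzp y)]
    refine huniq (k := kp x * (⁅zp x, kp y⁆ * kp y)) (mul_mem (hkp x) (mul_mem (hCK (hcomm _ _))
      (hkp y))) (mul_mem (hzp x) (hzp y)) ?_
    conv_lhs => rw [hdec x, hdec y]
    simp [commutatorElement_def, mul_assoc]
  have hr_N : ∀ {x}, x ∈ h.npre → r₀ x = νN x := fun {x} hx =>
    huniq (one_mem K) hx (one_mul x).symm
  -- averaging
  set m := q - 1 with hm
  have hgm : g ^ m = 1 := h.g_period fc
  have hpm : ∀ x, (ρ ^ m) x = x := h.period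
  set v : Q → F := fun x => ∑ i ∈ Finset.range m, g ^ (m - i) * r₀ ((ρ ^ i) x) with hv
  have hv_mul : ∀ x y, v (x * y) = v x + v y := fun x y => by
    simp only [hv, map_mul, hr_mul, mul_add, Finset.sum_add_distrib]
  have hv_rho : ∀ x, v (ρ x) = g * v x := fun x => by
    simp only [hv, Finset.mul_sum]
    have e : ∀ i ∈ Finset.range m, g ^ (m - i) * r₀ ((ρ ^ i) (ρ x)) =
        g * (g ^ (m - (i + 1)) * r₀ ((ρ ^ (i + 1)) x)) := fun i hi => by
      rw [Finset.mem_range] at hi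
      rw [← mul_assoc g, ← pow_succ', show m - (i + 1) + 1 = m - i by omega, pow_succ ρ i,
        MulAut.mul_apply]
    rw [Finset.sum_congr rfl e, ← Finset.mul_sum, ← Finset.mul_sum]
    congr 1
    have h1 := Finset.sum_range_succ (fun i => g ^ (m - i) * r₀ ((ρ ^ i) x)) m
    have h2 := Finset.sum_range_succ' (fun i => g ^ (m - i) * r₀ ((ρ ^ i) x)) m
    rw [h1] at h2
    simp only [Nat.sub_self, pow_zero, Nat.sub_zero, hgm, hpm] at h2
    rw [MulAut.one_apply] at h2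
    exact (add_right_cancel h2).symm
  have hv_N : ∀ {x}, x ∈ h.npre → v x = νN x := fun {x} hx => by
    simp only [hv]
    have e : ∀ i ∈ Finset.range m, g ^ (m - i) * r₀ ((ρ ^ i) x) = νN x := fun i hi => by
      rw [Finset.mem_range] at hi
      rw [hr_N (pow_mem_of_inv (fun y hy => h.npre_rho hy) i hx)]
      simp only [hνN]
      rw [h.delta_rho_pow, fc.rho_pow (fun z hz => h.rho_mem hz) i hx, sqrt₂_mul, sqrt₂_of_sq,
        ← mul_assoc, ← pow_add, show m - i + i = m by omega, hgm, one_mul]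
    rw [Finset.sum_congr rfl e, Finset.sum_const, Finset.card_range]
    obtain ⟨j, hj⟩ := h.odd_pred
    rw [← hm] at hj
    rw [hj, succ_nsmul, mul_nsmul, two_nsmul, CharTwo.add_self_eq_zero, smul_zero, zero_add]
  have hker : ∀ x, (u x = 0 ∧ v x = 0) ↔ x ∈ C := fun x => by
    constructor
    · rintro ⟨h1, h2⟩
      have hx := (hu_zero x).mp h1
      rw [hv_N hx] at h2
      exact (h.nu_eq_zero fc hx).mp h2
    · intro hx
      exact ⟨(hu_zero x).mpr (h.C_le_npre hx),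
        (hv_N (h.C_le_npre hx)).trans ((h.nu_eq_zero fc (h.C_le_npre hx)).mpr hx)⟩
  have hsurj : ∀ r s, ∃ x, u x = r ∧ v x = s := fun r s => by
    obtain ⟨x, hx⟩ := fc.surj_of_ne hu_mul hu_rho hx₀ r
    obtain ⟨y, hy⟩ := fc.surj_of_ne hu_mul hu_rho hx₀ (s - v x)
    refine ⟨x * delta α y, ?_, ?_⟩
    · rw [hu_mul, (hu_zero _).mpr (hdN y), add_zero, hx]
    · rw [hv_mul, hv_N (hdN y)]
      show v x + u y = s
      rw [hy, add_sub_cancel]
  choose L hLu hLv using hsurj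
  have hcl : ∀ a b c : Q, κ ⁅a * b, c⁆ = κ ⁅a, c⁆ + κ ⁅b, c⁆ := fun a b c => by
    rw [comm_mul_left_of_central (h.le_center (hcomm b c)), fc.mul _ (hcomm a c) _ (hcomm b c)]
  have hcr : ∀ a b c : Q, κ ⁅a, b * c⁆ = κ ⁅a, b⁆ + κ ⁅a, c⁆ := fun a b c => by
    rw [comm_mul_right_of_central (h.le_center (hcomm a c)), fc.mul _ (hcomm a b) _ (hcomm a c)]
  have hcs : ∀ a b : Q, κ ⁅a, b⁆ = κ ⁅b, a⁆ := fun a b => by
    rw [← commutatorElement_inv b a, h.inv_eq (hcomm b a)]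
  have hdiff : ∀ {x x'}, u x = u x' → v x = v x' → x'⁻¹ * x ∈ C := fun {x x'} e1 e2 => by
    refine (hker _).mp ⟨?_, ?_⟩
    · have := hu_mul x' (x'⁻¹ * x)
      rw [mul_inv_cancel_left, e1] at this
      exact left_eq_add.mp this
    · have := hv_mul x' (x'⁻¹ * x)
      rw [mul_inv_cancel_left, e2] at this
      exact left_eq_add.mp this
  have hsame : ∀ {x x'} (y : Q), u x = u x' → v x = v x' → κ ⁅x, y⁆ = κ ⁅x', y⁆ :=
    fun {x x'} y e1 e2 => by
    have := hcl x' (x'⁻¹ * x) y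
    rwa [mul_inv_cancel_left, (eq_one_of_central (h.le_center (hdiff e1 e2))).1, fc.one,
      add_zero] at this
  have hsame2 : ∀ {x x' y y'}, u x = u x' → v x = v x' → u y = u y' → v y = v y' →
      κ ⁅x, y⁆ = κ ⁅x', y'⁆ := fun {x x' y y'} e1 e2 e3 e4 => by
    rw [hsame y e1 e2, hcs x', hsame x' e3 e4, hcs y']
  have hLadd : ∀ r r' s s', u (L (r + r') (s + s')) = u (L r s * L r' s') ∧
      v (L (r + r') (s + s')) = v (L r s * L r' s') := fun r r' s s' => by
    simp only [hu_mul, hv_mul, hLu, hLv, and_self]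
  have hρL : ∀ j r s, u ((ρ ^ j) (L r s)) = u (L (g ^ j * r) (g ^ j * s)) ∧
      v ((ρ ^ j) (L r s)) = v (L (g ^ j * r) (g ^ j * s)) := fun j r s => by
    simp only [fc.weight_pow hu_rho, fc.weight_pow hv_rho, hLu, hLv, and_self]
  -- the bilinear parts
  have hM : ∀ (i₁ i₂ : F → F × F), (∀ r r', i₁ (r + r') = i₁ r + i₁ r') →
      (∀ r r', i₂ (r + r') = i₂ r + i₂ r') → (∀ t r, i₁ (t * r) = (t * (i₁ r).1, t * (i₁ r).2)) →
      (∀ t r, i₂ (t * r) = (t * (i₂ r).1, t * (i₂ r).2)) → ∀ r s,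
      κ ⁅L (i₁ r).1 (i₁ r).2, L (i₂ s).1 (i₂ s).2⁆ =
        κ ⁅L (i₁ 1).1 (i₁ 1).2, L (i₂ 1).1 (i₂ 1).2⁆ * r * s := by
    intro i₁ i₂ ha₁ ha₂ hs₁ hs₂
    refine weight_two (fun r s => κ ⁅L (i₁ r).1 (i₁ r).2, L (i₂ s).1 (i₂ s).2⁆) ?_ ?_ ?_
    · intro r r' s
      rw [← hcl]
      refine hsame _ ?_ ?_ <;> rw [ha₁] <;> simp only [Prod.fst_add, Prod.snd_add]
      · exact (hLadd _ _ _ _).1
      · exact (hLadd _ _ _ _).2
    · intro r s s'
      rw [← hcr]
      refine hsame2 rfl rfl ?_ ?_ <;> rw [ha₂] <;> simp only [Prod.fst_add, Prod.snd_add]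
      · exact (hLadd _ _ _ _).1
      · exact (hLadd _ _ _ _).2
    · intro t ht r s
      obtain ⟨j, rfl⟩ := fc.pow_surj t ht
      rw [← fc.rho_pow (fun z hz => h.rho_mem hz) j (hcomm _ _), map_commutatorElement, hs₁, hs₂]
      exact hsame2 (hρL j _ _).1.symm (hρL j _ _).2.symm (hρL j _ _).1.symm (hρL j _ _).2.symm
  have hXX : ∀ r s, κ ⁅L r 0, L s 0⁆ = 0 := fun r s => by
    rw [hM (fun r => (r, 0)) (fun r => (r, 0)) (by simp) (by simp) (by simp) (by simp) r s,
      commutatorElement_self, fc.one, zero_mul, zero_mul]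
  have hYY : ∀ r s, κ ⁅L 0 r, L 0 s⁆ = 0 := fun r s => by
    rw [hM (fun r => (0, r)) (fun r => (0, r)) (by simp) (by simp) (by simp) (by simp) r s,
      commutatorElement_self, fc.one, zero_mul, zero_mul]
  set c := κ ⁅L 1 0, L 0 1⁆ with hc
  have hXY : ∀ r s, κ ⁅L r 0, L 0 s⁆ = c * r * s :=
    hM (fun r => (r, 0)) (fun r => (0, r)) (by simp) (by simp) (by simp) (by simp)
  have hB : ∀ x y : Q, κ ⁅x, y⁆ = c * (u x * v y + u y * v x) := fun x y => by
    have hx : u x = u (L (u x) 0 * L 0 (v x)) ∧ v x = v (L (u x) 0 * L 0 (v x)) := by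
      simp [hu_mul, hv_mul, hLu, hLv]
    have hy : u y = u (L (u y) 0 * L 0 (v y)) ∧ v y = v (L (u y) 0 * L 0 (v y)) := by
      simp [hu_mul, hv_mul, hLu, hLv]
    rw [hsame2 hx.1 hx.2 hy.1 hy.2, hcl, hcr, hcr, hXX, hYY, hXY, hcs (L 0 (v x)), hXY]
    ring
  have hc0 : c ≠ 0 := fun h0 => hna ⟨⟨fun x y => commutatorElement_eq_one_iff_mul_comm.mp
    (fc.inj _ (hcomm x y) (by rw [hB, h0, zero_mul]))⟩⟩
  -- the squaring map
  have hΦmul : ∀ x y : Q, κ (x * y * (x * y)) = κ (x * x) + κ (y * y) + κ ⁅y, x⁆ := fun x y => by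
    have e : x * y * (x * y) = x * x * (y * y) * ⁅y, x⁆ := by
      calc x * y * (x * y) = x * ⁅y, x⁆ * (x * y * y) := by
            simp [commutatorElement_def, mul_assoc]
        _ = _ := by rw [mul_assoc, ← h.econst (hcomm y x) (x * y * y)]; simp [mul_assoc]
    rw [e, fc.mul _ (mul_mem (hsq x) (hsq y)) _ (hcomm y x), fc.mul _ (hsq x) _ (hsq y)]
  have hΦsame : ∀ {x x'}, u x = u x' → v x = v x' → κ (x * x) = κ (x' * x') :=
    fun {x x'} e1 e2 => by
    have hd := hdiff e1 e2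
    have := hΦmul x' (x'⁻¹ * x)
    rwa [mul_inv_cancel_left, h.elem _ hd, fc.one, add_zero,
      (eq_one_of_central (h.le_center hd)).1, fc.one, add_zero] at this
  have hΦline : ∀ r s t : F,
      κ (L (t * r) (t * s) * L (t * r) (t * s)) = t ^ 2 * κ (L r s * L r s) := by
    intro r s t
    rcases eq_or_ne t 0 with rfl | ht
    · rw [zero_mul, zero_mul, h.elem _ ((hker _).mp ⟨hLu 0 0, hLv 0 0⟩), fc.one]
      ring
    · obtain ⟨j, rfl⟩ := fc.pow_surj t ht
      rw [← fc.rho_pow (fun z hz => h.rho_mem hz) j (hsq _), map_mul]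
      exact hΦsame (hρL j r s).1.symm (hρL j r s).2.symm
  set a₁ := κ (L 1 0 * L 1 0)
  set a₂ := κ (L 0 1 * L 0 1)
  have hΦ : ∀ x : Q, κ (x * x) = a₁ * u x ^ 2 + c * (u x * v x) + a₂ * v x ^ 2 := fun x => by
    have hx : u x = u (L (u x) 0 * L 0 (v x)) ∧ v x = v (L (u x) 0 * L 0 (v x)) := by
      simp [hu_mul, hv_mul, hLu, hLv]
    have e1 := hΦline 1 0 (u x)
    have e2 := hΦline 0 1 (v x)
    rw [mul_one, mul_zero] at e1
    rw [mul_zero, mul_one] at e2
    rw [hΦsame hx.1 hx.2, hΦmul, e1, e2, hcs, hXY]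
    ring
  have hv_alpha : ∀ x, v (α x) = v x + u x := fun x => by
    conv_lhs => rw [show α x = x * delta α x by simp [delta]]
    rw [hv_mul, hv_N (hdN x)]
  have ha₂ : a₂ = c := by
    have h1 := hΦ (α (L 1 0))
    rw [← map_mul, (h.fix _).mp (hsq _), hu_alpha, hv_alpha, hLu, hLv] at h1
    have h2 : a₂ + c = 0 := by
      linear_combination (-1 : F) * h1
    exact CharTwo.add_eq_zero.mp h2
  refine ⟨fun x => κ x / c, u, v, a₁ / c, ⟨⟨?_, ?_, ?_, ?_, fc.pow_surj⟩, hu_mul, hv_mul,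
    fun r s => ⟨L r s, hLu r s, hLv r s⟩, hker, hu_rho, hv_rho, hu_alpha, hv_alpha, hsq, hcomm,
    fun x => ?_, fun x y => ?_⟩⟩
  · intro z hz z' hz'
    show κ (z * z') / c = _
    rw [fc.mul z hz z' hz', add_div]
  · intro z hz hz0
    exact fc.inj z hz ((div_eq_zero_iff.mp hz0).resolve_right hc0)
  · intro r
    obtain ⟨z, hz, e⟩ := fc.surj (r * c)
    exact ⟨z, hz, by show κ z / c = r; rw [e, mul_div_cancel_right₀ r hc0]⟩
  · intro z hz
    show κ (ρ z) / c = _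
    rw [fc.rho z hz, mul_div_assoc]
  · show κ (x * x) / c = _
    rw [hΦ, ha₂]
    field_simp
  · show κ ⁅x, y⁆ / c = _
    rw [hB, mul_div_cancel_left₀ _ hc0]

end Hyp

theorem map_eq_of_inv [Finite Q] {C : Subgroup Q} (φ : MulAut Q) (h : ∀ z ∈ C, φ z ∈ C) :
    C.map (φ : Q →* Q) = C :=
  eq_of_le_of_card_ge (by rintro _ ⟨z, hz, rfl⟩; exact h z hz)
    (by rw [card_map_of_injective φ.injective])

/-- `Q / C` is abelian. -/
theorem comm_mem_all : ∀ (N : ℕ) {Q : Type u} [Group Q] [Finite Q] {α ρ : MulAut Q}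
    {C : Subgroup Q} {q : ℕ}, Nat.card Q ≤ N → Hyp α ρ C q → ∀ x y : Q, ⁅x, y⁆ ∈ C := by
  intro N
  induction N using Nat.strong_induction_on with
  | _ N ih =>
  intro Q _ _ α ρ C q hN h
  classical
  haveI := h.normal
  by_contra hcon
  push Not at hcon
  obtain ⟨x₁, y₁, hxy⟩ := hcon
  set αb : MulAut (Q ⧸ C) := QuotientGroup.congr C C α (map_eq_of_inv α fun z hz => h.alpha_mem hz)
  set ρb : MulAut (Q ⧸ C) := QuotientGroup.congr C C ρ (map_eq_of_inv ρ fun z hz => h.rho_mem hz)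
  have hαb : ∀ x : Q, αb (QuotientGroup.mk' C x) = QuotientGroup.mk' C (α x) := fun x => rfl
  have hρb : ∀ x : Q, ρb (QuotientGroup.mk' C x) = QuotientGroup.mk' C (ρ x) := fun x => rfl
  have hρbk : ∀ (k : ℕ) (x : Q), (ρb ^ k) (QuotientGroup.mk' C x) =
      QuotientGroup.mk' C ((ρ ^ k) x) := by
    intro k
    induction k with
    | zero => intro x; rfl
    | succ k ihk => intro x; rw [pow_succ_apply, pow_succ_apply, ihk, hρb]
  have hmem : ∀ x : Q, QuotientGroup.mk' C x ∈ h.npre.map (QuotientGroup.mk' C) ↔ x ∈ h.npre := by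
    intro x
    refine ⟨fun ⟨y, hy, e⟩ => ?_, fun hx => ⟨x, hx, rfl⟩⟩
    have h1 : y⁻¹ * x ∈ C := QuotientGroup.eq.mp e
    simpa using mul_mem hy (h.C_le_npre h1)
  obtain ⟨x₀, hx₀, hx₀C⟩ : ∃ x ∈ h.npre, x ∉ C := by
    have hnt : Nontrivial (Q ⧸ C) := ⟨⟨QuotientGroup.mk ⁅x₁, y₁⁆, 1,
      fun e => hxy ((QuotientGroup.eq_one_iff _).mp e)⟩⟩
    obtain ⟨w, hw, hw1⟩ := exists_fixed_ne_one (h.isP.to_quotient C) αb
      (fun w => by
        obtain ⟨w, rfl⟩ := QuotientGroup.mk'_surjective C w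
        rw [hαb, hαb, h.invol]) hnt
    obtain ⟨x, rfl⟩ := QuotientGroup.mk'_surjective C w
    exact ⟨x, QuotientGroup.eq.mp ((hαb x).symm.trans hw).symm,
      fun hx => hw1 ((QuotientGroup.eq_one_iff x).mpr hx)⟩
  have hinj : ∀ {x y : Q}, x ∈ h.npre → y ∈ h.npre → delta α x = delta α y → x⁻¹ * y ∈ C := by
    intro x y hx _ e
    have hm := h.delta_mul_of_mem (x := x) (y := x⁻¹ * y) hx
    rw [mul_inv_cancel_left, e] at hm
    exact h.delta_eq_one.mp (left_eq_mul.mp hm)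
  have hW : Hyp αb ρb (h.npre.map (QuotientGroup.mk' C)) q := by
    refine ⟨h.isP.to_quotient C, fun w => ?_, fun w => ?_, fun w => ?_, ?_, ?_, h.four,
      fun w => ?_, ?_⟩
    · obtain ⟨x, rfl⟩ := QuotientGroup.mk'_surjective C w
      rw [hmem, hαb, h.mem_npre, eq_comm, QuotientGroup.mk'_apply, QuotientGroup.mk'_apply,
        QuotientGroup.eq]
      rfl
    · obtain ⟨x, rfl⟩ := QuotientGroup.mk'_surjective C w
      rw [hαb, hαb, h.invol]
    · obtain ⟨x, rfl⟩ := QuotientGroup.mk'_surjective C w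
      rw [hρb, hαb, hαb, hρb, h.comm]
    · rintro _ ⟨x, hx, rfl⟩
      rw [← map_mul, QuotientGroup.mk'_apply, QuotientGroup.eq_one_iff]
      exact h.npre_sq hx
    · let f : h.npre →* Q :=
        { toFun := fun x => delta α x
          map_one' := by simp [delta]
          map_mul' := fun x y => h.delta_mul_of_mem x.2 }
      have hr : f.range = C := le_antisymm (by rintro _ ⟨x, rfl⟩; exact x.2) fun z hz => by
        obtain ⟨x, hx, e⟩ := h.exists_delta_eq hx₀ hx₀C hz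
        exact ⟨⟨x, hx⟩, e⟩
      have hk : ((QuotientGroup.mk' C).comp h.npre.subtype).ker = f.ker := by
        ext x
        simp only [MonoidHom.mem_ker, MonoidHom.coe_comp, Subgroup.coe_subtype,
          Function.comp_apply, QuotientGroup.mk'_apply, QuotientGroup.eq_one_iff]
        exact h.delta_eq_one.symm
      rw [show h.npre.map (QuotientGroup.mk' C) = ((QuotientGroup.mk' C).comp h.npre.subtype).range
        by rw [MonoidHom.range_comp, range_subtype], ← index_ker, hk, index_ker, hr]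
      exact h.card
    · obtain ⟨x, rfl⟩ := QuotientGroup.mk'_surjective C w
      rw [hρbk, h.period]
    · rintro _ ⟨x, hx, rfl⟩ _ ⟨y, hy, rfl⟩ hx1 hy1
      obtain ⟨k, hk⟩ := h.trans _ hx _ hy
        (fun e => hx1 ((QuotientGroup.eq_one_iff x).mpr (h.delta_eq_one.mp e)))
        (fun e => hy1 ((QuotientGroup.eq_one_iff y).mpr (h.delta_eq_one.mp e)))
      refine ⟨k, ?_⟩
      rw [hρbk]
      exact QuotientGroup.eq.mpr (hinj (pow_mem_of_inv (fun z hz => h.npre_rho hz) k hx) hy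
        ((h.delta_rho_pow k x).trans hk))
  have hWna : ¬ IsMulCommutative (Q ⧸ C) := fun hc => hxy (by
    rw [← QuotientGroup.eq_one_iff, ← QuotientGroup.mk'_apply, map_commutatorElement,
      commutatorElement_eq_one_iff_mul_comm]
    exact hc.is_comm.comm _ _)
  have hlt : Nat.card (Q ⧸ C) < N := by
    refine lt_of_lt_of_le ?_ hN
    rw [← index_eq_card, ← card_mul_index C]
    refine lt_mul_of_one_lt_left (Nat.pos_of_ne_zero FiniteIndex.index_ne_zero) ?_
    have := h.card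
    have := h.four
    omega
  obtain ⟨F, instF, instFt, instC, g, κ₀, fc₀, hcardF⟩ := hW.exists_fcoord
  obtain ⟨κW, u, v, a, cW⟩ := hW.coord_of_comm fc₀ (ih _ hlt le_rfl hW) hWna
  set mk := QuotientGroup.mk' C with hmk
  set U : Q → F := fun x => u (mk x) with hU
  set V : Q → F := fun x => v (mk x) with hV
  -- coordinates on `C`
  choose lift hlift hliftd using fun z : C => h.exists_delta_eq hx₀ hx₀C z.2
  set κ : Q → F := fun z => if hz : z ∈ C then κW (mk (lift ⟨z, hz⟩)) else 0 with hκ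
  have hκd : ∀ {x : Q}, x ∈ h.npre → κ (delta α x) = κW (mk x) := fun {x} hx => by
    simp only [hκ, dif_pos (show delta α x ∈ C from hx)]
    congr 1
    exact QuotientGroup.eq.mpr (hinj (hlift _) hx (hliftd _))
  have fc : FCoord α ρ C g κ := by
    refine ⟨fun z hz z' hz' => ?_, fun z hz h0 => ?_, fun r => ?_, fun z hz => ?_, cW.fc.pow_surj⟩
    · obtain ⟨x, hx, rfl⟩ := h.exists_delta_eq hx₀ hx₀C hz
      obtain ⟨y, hy, rfl⟩ := h.exists_delta_eq hx₀ hx₀C hz'
      rw [← h.delta_mul_of_mem hx, hκd hx, hκd hy, hκd (mul_mem hx hy), map_mul,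
        cW.fc.mul _ ⟨x, hx, rfl⟩ _ ⟨y, hy, rfl⟩]
    · obtain ⟨x, hx, rfl⟩ := h.exists_delta_eq hx₀ hx₀C hz
      rw [hκd hx] at h0
      exact h.delta_eq_one.mpr
        ((QuotientGroup.eq_one_iff x).mp (cW.fc.inj _ ⟨x, hx, rfl⟩ h0))
    · obtain ⟨w, ⟨x, hx, rfl⟩, e⟩ := cW.fc.surj r
      exact ⟨delta α x, hx, (hκd hx).trans e⟩
    · obtain ⟨x, hx, rfl⟩ := h.exists_delta_eq hx₀ hx₀C hz
      rw [← h.delta_rho, hκd (h.npre_rho hx), hκd hx, hmk, ← hρb, cW.fc.rho _ ⟨x, hx, rfl⟩]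
  -- commutators with `npre`
  have hNc : ∀ z ∈ h.npre, ∀ w : Q, ⁅z, w⁆ ∈ C ∧ ⁅w, z⁆ ∈ C := fun z hz w => by
    constructor <;>
    · rw [← QuotientGroup.eq_one_iff, ← QuotientGroup.mk'_apply, map_commutatorElement]
      first
        | exact (eq_one_of_central (hW.le_center ⟨z, hz, rfl⟩)).1
        | exact (eq_one_of_central (hW.le_center ⟨z, hz, rfl⟩)).2
  have hcl : ∀ a ∈ h.npre, ∀ b ∈ h.npre, ∀ w : Q, κ ⁅a * b, w⁆ = κ ⁅a, w⁆ + κ ⁅b, w⁆ :=
    fun a ha b hb w => by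
    rw [comm_mul_left_of_central (h.le_center (hNc b hb w).1),
      fc.mul _ (hNc a ha w).1 _ (hNc b hb w).1]
  have hcr : ∀ z ∈ h.npre, ∀ b c : Q, κ ⁅z, b * c⁆ = κ ⁅z, b⁆ + κ ⁅z, c⁆ := fun z hz b c => by
    rw [comm_mul_right_of_central (h.le_center (hNc z hz c).1),
      fc.mul _ (hNc z hz b).1 _ (hNc z hz c).1]
  have hcs : ∀ z ∈ h.npre, ∀ w : Q, κ ⁅w, z⁆ = κ ⁅z, w⁆ := fun z hz w => by
    rw [← commutatorElement_inv z w, h.inv_eq (hNc z hz w).1]
  have hC0 : ∀ z ∈ C, ∀ w : Q, κ ⁅z, w⁆ = 0 ∧ κ ⁅w, z⁆ = 0 := fun z hz w => by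
    rw [(eq_one_of_central (h.le_center hz)).1, (eq_one_of_central (h.le_center hz)).2]
    exact ⟨fc.one, fc.one⟩
  choose Z' hZ' hZ'v using cW.fc.surj
  have hZex : ∀ r, ∃ z ∈ h.npre, κW (mk z) = r := fun r => by
    obtain ⟨z, hz, e⟩ := hZ' r
    exact ⟨z, hz, by rw [hmk, e]; exact hZ'v r⟩
  choose Z hZ hZv using hZex
  have hzdiff : ∀ {z z' : Q}, z ∈ h.npre → z' ∈ h.npre → κW (mk z) = κW (mk z') →
      z'⁻¹ * z ∈ C := fun {z z'} hz hz' e => by
    exact QuotientGroup.eq.mp (cW.fc.ext ⟨z', hz', rfl⟩ ⟨z, hz, rfl⟩ e.symm)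
  have hzsame : ∀ {z z' : Q}, z ∈ h.npre → z' ∈ h.npre → κW (mk z) = κW (mk z') →
      ∀ w : Q, κ ⁅z, w⁆ = κ ⁅z', w⁆ := fun {z z'} hz hz' e w => by
    have hd := hzdiff hz hz' e
    have := hcl z' hz' _ (h.C_le_npre hd) w
    rwa [mul_inv_cancel_left, (hC0 _ hd w).1, add_zero] at this
  have hρN : ∀ j : ℕ, ∀ z ∈ h.npre, κW (mk ((ρ ^ j) z)) = (g ^ j) ^ 2 * κW (mk z) :=
    fun j z hz => by
    rw [hmk, ← hρbk, cW.fc.rho_pow (fun w hw => hW.rho_mem hw) j ⟨z, hz, rfl⟩]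
  have hZadd : ∀ r r', κW (mk (Z ((r + r') ^ 2))) = κW (mk (Z (r ^ 2) * Z (r' ^ 2))) :=
    fun r r' => by
    rw [map_mul, cW.fc.mul _ ⟨_, hZ _, rfl⟩ _ ⟨_, hZ _, rfl⟩, hZv, hZv, hZv, CharTwo.add_sq]
  have hρZ : ∀ j r, κW (mk ((ρ ^ j) (Z (r ^ 2)))) = κW (mk (Z ((g ^ j * r) ^ 2))) := fun j r => by
    rw [hρN j _ (hZ _), hZv, hZv, mul_pow]
  have hZN : ∀ j r, (ρ ^ j) (Z r) ∈ h.npre := fun j r =>
    pow_mem_of_inv (fun z hz => h.npre_rho hz) j (hZ r)
  have hρC : ∀ z ∈ C, ρ z ∈ C := fun z hz => h.rho_mem hz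
  have hzz : ∀ {z z' y y' : Q}, z ∈ h.npre → z' ∈ h.npre → κW (mk z) = κW (mk z') →
      y ∈ h.npre → y' ∈ h.npre → κW (mk y) = κW (mk y') → κ ⁅z, y⁆ = κ ⁅z', y'⁆ :=
    fun {z z' y y'} hz hz' e hy hy' e' => by
    rw [hzsame hz hz' e y, hcs y hy z', hzsame hy hy' e' z', hcs z' hz' y']
  -- `npre` is abelian
  have hNN : ∀ z ∈ h.npre, ∀ z' ∈ h.npre, κ ⁅z, z'⁆ = 0 := by
    have hM := weight_two_alternating (fun r s : F => κ ⁅Z (r ^ 2), Z (s ^ 2)⁆)
      (fun r r' s => by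
        rw [← hcl _ (hZ _) _ (hZ _)]
        exact hzsame (hZ _) (mul_mem (hZ _) (hZ _)) (hZadd r r') _)
      (fun r s s' => by
        rw [← hcr _ (hZ _), ← hcs _ (hZ _), hzsame (hZ _) (mul_mem (hZ _) (hZ _)) (hZadd s s') _,
          hcs _ (hZ _)])
      (fun t ht r s => by
        obtain ⟨j, rfl⟩ := fc.pow_surj t ht
        rw [← fc.rho_pow hρC j (hNc _ (hZ _) _).1, map_commutatorElement]
        exact (hzz (hZN j _) (hZ _) (hρZ j r) (hZN j _) (hZ _) (hρZ j s)).symm)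
      (fun r => by rw [commutatorElement_self, fc.one])
    intro z hz z' hz'
    have e1 := hzsame hz (hZ (sqrt₂ (κW (mk z)) ^ 2)) (by rw [hZv, sqrt₂_sq]) z'
    have e2 := hzsame hz' (hZ (sqrt₂ (κW (mk z')) ^ 2)) (by rw [hZv, sqrt₂_sq])
      (Z (sqrt₂ (κW (mk z)) ^ 2))
    rw [e1, ← hcs _ (hZ _), e2, hcs _ (hZ _)]
    exact hM _ _
  -- lifts of the coordinates
  have hLex : ∀ r s, ∃ x : Q, U x = r ∧ V x = s := fun r s => by
    obtain ⟨w, hw⟩ := cW.surj r s
    obtain ⟨x, rfl⟩ := QuotientGroup.mk'_surjective C w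
    exact ⟨x, hw⟩
  choose L hLu hLv using hLex
  have hUm : ∀ x y, U (x * y) = U x + U y := fun x y => by
    simp only [hU, map_mul, cW.u_mul]
  have hVm : ∀ x y, V (x * y) = V x + V y := fun x y => by
    simp only [hV, map_mul, cW.v_mul]
  have hker : ∀ x, U x = 0 → V x = 0 → x ∈ h.npre := fun x hu hv =>
    (hmem x).mp ((cW.ker _).mp ⟨hu, hv⟩)
  have hwsame : ∀ {z w w' : Q}, z ∈ h.npre → U w = U w' → V w = V w' →
      κ ⁅z, w⁆ = κ ⁅z, w'⁆ := fun {z w w'} hz e1 e2 => by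
    have hd : w'⁻¹ * w ∈ h.npre := by
      refine hker _ ?_ ?_
      · have := hUm w' (w'⁻¹ * w)
        rw [mul_inv_cancel_left, e1] at this
        exact left_eq_add.mp this
      · have := hVm w' (w'⁻¹ * w)
        rw [mul_inv_cancel_left, e2] at this
        exact left_eq_add.mp this
    have := hcr z hz w' (w'⁻¹ * w)
    rwa [mul_inv_cancel_left, hNN z hz _ hd, add_zero] at this
  have hUα : ∀ x, U (α x) = U x := fun x => by
    show u (mk (α x)) = u (mk x)
    rw [← hαb, cW.u_alpha]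
  have hVα : ∀ x, V (α x) = V x + U x := fun x => by
    show v (mk (α x)) = v (mk x) + u (mk x)
    rw [← hαb, cW.v_alpha]
  -- the second axis centralizes `npre`
  have hY : ∀ z ∈ h.npre, ∀ b, κ ⁅z, L 0 b⁆ = 0 := by
    intro z hz b
    have hαz : α z = z * delta α z := by simp [delta]
    have e1 : κ ⁅z, α (L b 0)⁆ = κ ⁅z, L b 0⁆ := by
      have hfx : α ⁅z, L b 0⁆ = ⁅z, L b 0⁆ := (h.fix _).mp (hNc z hz _).1
      rw [map_commutatorElement, hαz] at hfx
      have := congrArg κ hfx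
      rwa [hcl z hz _ (h.C_le_npre hz), (hC0 _ hz _).1, add_zero] at this
    rw [hwsame (w := α (L b 0)) (w' := L b 0 * L 0 b) hz
      (by rw [hUα, hUm, hLu, hLu, add_zero])
      (by rw [hVα, hVm, hLu, hLv, hLv])] at e1
    rw [hcr z hz] at e1
    exact add_eq_left.mp e1
  set c := κ ⁅Z (1 ^ 2), L 1 0⁆ with hc
  have hM1 : ∀ r b, κ ⁅Z (r ^ 2), L b 0⁆ = c * r * b := by
    refine weight_two (fun r b : F => κ ⁅Z (r ^ 2), L b 0⁆) (fun r r' b => ?_) (fun r b b' => ?_)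
      (fun t ht r b => ?_)
    · rw [← hcl _ (hZ _) _ (hZ _)]
      exact hzsame (hZ _) (mul_mem (hZ _) (hZ _)) (hZadd r r') _
    · rw [← hcr _ (hZ _)]
      exact hwsame (hZ _) (by rw [hUm, hLu, hLu, hLu]) (by rw [hVm, hLv, hLv, hLv, add_zero])
    · obtain ⟨j, rfl⟩ := fc.pow_surj t ht
      rw [← fc.rho_pow hρC j (hNc _ (hZ _) _).1, map_commutatorElement,
        hzsame (hZN j _) (hZ _) (hρZ j r)]
      refine hwsame (hZ _) ?_ ?_
      · show U (L (g ^ j * b) 0) = u (mk _)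
        rw [← hρbk, cW.fc.weight_pow cW.u_rho, show u (mk (L b 0)) = b from hLu b 0, hLu]
      · show V (L (g ^ j * b) 0) = v (mk _)
        rw [← hρbk, cW.fc.weight_pow cW.v_rho, show v (mk (L b 0)) = 0 from hLv b 0, mul_zero,
          hLv]
  have hγ : ∀ z ∈ h.npre, ∀ w, κ ⁅z, w⁆ = c * sqrt₂ (κW (mk z)) * U w := fun z hz w => by
    rw [hwsame (w' := L (U w) 0 * L 0 (V w)) hz (by rw [hUm, hLu, hLu, add_zero])
      (by rw [hVm, hLv, hLv, zero_add]), hcr z hz, hY z hz, add_zero,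
      hzsame hz (hZ (sqrt₂ (κW (mk z)) ^ 2)) (by rw [hZv, sqrt₂_sq]), hM1]
  -- `npre` is central
  have hc0 : c = 0 := by
    obtain ⟨t, ht0, ht1⟩ : ∃ t : F, t ≠ 0 ∧ t ≠ 1 := by
      by_contra hno
      push Not at hno
      have hle : Fintype.card F ≤ ({0, 1} : Finset F).card := by
        refine Finset.card_le_card fun t _ => ?_
        rcases eq_or_ne t 0 with rfl | ht
        · simp
        · simp [hno t ht]
      have := h.four
      have := Finset.card_le_two (a := (0 : F)) (b := 1)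
      omega
    set x := L 0 1 with hx
    set y := L t 0 with hy
    set k := ⁅x, y⁆ with hk
    have hmkk : mk k = ⁅mk x, mk y⁆ := map_commutatorElement mk x y
    have hkN : k ∈ h.npre := (hmem _).mp (hmkk ▸ cW.comm_mem _ _)
    have hkv : κW (mk k) = t := by
      rw [hmkk, cW.comm]
      show U x * V y + U y * V x = t
      rw [hx, hy, hLu, hLv, hLu, hLv]; ring
    have hsqN : ∀ w : Q, w * w ∈ h.npre := fun w =>
      (hmem _).mp (by rw [map_mul]; exact cW.sq_mem _)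
    have hxx : κW (mk (x * x)) = 1 := by
      rw [map_mul, cW.sq]
      show a * U x ^ 2 + U x * V x + V x ^ 2 = 1
      rw [hx, hLu, hLv]; ring
    have e1 : κ ⁅x * x, y⁆ = κ ⁅x, k⁆ + κ (k * k) := by
      rw [show ⁅x * x, y⁆ = ⁅x, k⁆ * (k * k) by simp [hk, commutatorElement_def, mul_assoc],
        fc.mul _ (hNc k hkN x).2 _ (h.npre_sq hkN)]
    have e2 : κ ⁅x, y * y⁆ = κ (k * k) + κ ⁅y, k⁆ := by
      rw [show ⁅x, y * y⁆ = k * ⁅y, k⁆ * k by simp [hk, commutatorElement_def, mul_assoc],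
        mul_assoc, ← h.econst (hNc k hkN y).2 k, ← mul_assoc,
        fc.mul _ (h.npre_sq hkN) _ (hNc k hkN y).2]
    rw [hγ _ (hsqN x), hxx, hcs k hkN, hγ k hkN] at e1
    rw [hcs _ (hsqN y), hγ _ (hsqN y), hcs k hkN, hγ k hkN, hkv] at e2
    rw [hkv] at e1
    simp only [hx, hy, hLu, mul_zero, zero_add] at e1 e2
    have h1 : sqrt₂ (1 : F) = 1 := map_one _
    rw [h1, mul_one] at e1
    rw [← e1] at e2
    have : c * t * (1 + sqrt₂ t) = 0 := by linear_combination (-1 : F) * e2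
    rcases mul_eq_zero.mp this with h2 | h2
    · exact (mul_eq_zero.mp h2).resolve_right ht0
    · exact absurd (sqrt₂_injective ((CharTwo.add_eq_zero.mp h2).symm.trans h1.symm)) ht1
  have hNcent : ∀ z ∈ h.npre, z ∈ center Q := fun z hz => mem_center_iff.mpr fun w =>
    (commutatorElement_eq_one_iff_mul_comm.mp (fc.inj _ (hNc z hz w).1
      (by rw [hγ z hz, hc0, zero_mul, zero_mul]))).symm
  -- the contradiction
  set x := L 1 0 with hx
  set y := delta α x with hy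
  set k := ⁅x, y⁆ with hk
  have hmkk : mk k = ⁅mk x, mk y⁆ := map_commutatorElement mk x y
  have hkN : k ∈ h.npre := (hmem _).mp (hmkk ▸ cW.comm_mem _ _)
  have hkv : κW (mk k) = 1 := by
    rw [hmkk, cW.comm]
    show U x * V y + U y * V x = 1
    have e1 : U y = 0 ∧ V y = 1 := by
      have eα : α x = x * y := by simp [hy, delta]
      have h1 := hUα x
      have h2 := hVα x
      rw [eα, hUm] at h1
      rw [eα, hVm, hx, hLu] at h2
      exact ⟨add_eq_left.mp h1, add_left_cancel h2⟩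
    rw [e1.1, e1.2, hx, hLu]; ring
  have hkk : k * k = 1 := by
    have hx2 : ⁅x * x, y⁆ = 1 :=
      (eq_one_of_central (hNcent _ ((hmem _).mp (by rw [map_mul]; exact cW.sq_mem _)))).1
    rw [show ⁅x * x, y⁆ = x * k * x⁻¹ * k by simp [hk, commutatorElement_def, mul_assoc],
      mem_center_iff.mp (hNcent k hkN) x, mul_inv_cancel_right] at hx2
    exact hx2
  have hkfix : α k = k := by
    have eα : α x = x * y := by simp [hy, delta]
    have eβ : α y = y⁻¹ := by simp [hy, delta, h.invol]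
    calc α k = ⁅x * y, y⁻¹⁆ := by rw [hk, map_commutatorElement, eα, eβ]
      _ = y⁻¹ * k⁻¹ * y := by simp [hk, commutatorElement_def, mul_assoc]
      _ = k := by
        rw [inv_eq_of_mul_eq_one_right hkk, mem_center_iff.mp (hNcent k hkN) y⁻¹,
          inv_mul_cancel_right]
  have hk1 : mk k = 1 := (QuotientGroup.eq_one_iff k).mpr ((h.fix k).mpr hkfix)
  rw [hk1, cW.fc.one] at hkv
  exact zero_ne_one hkv

/-- The structure theorem. -/
theorem exists_coord [Finite Q] {α ρ : MulAut Q} {C : Subgroup Q} {q : ℕ} (h : Hyp α ρ C q)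
    (hna : ¬ IsMulCommutative Q) :
    ∃ (F : Type) (_ : Field F) (_ : Fintype F) (_ : CharP F 2) (g : F) (κ u v : Q → F) (a : F),
      Coord α ρ C g κ u v a ∧ Fintype.card F = q := by
  obtain ⟨F, instF, instFt, instC, g, κ, fc, hcard⟩ := h.exists_fcoord
  obtain ⟨κ', u, v, a, c⟩ := h.coord_of_comm fc (comm_mem_all _ le_rfl h) hna
  exact ⟨F, instF, instFt, instC, g, κ', u, v, a, c, hcard⟩

end Cfsg.Agent.H53.Singer
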